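import Mathlib
import Cfsg.Agent.Lib.Symplectic.Form

/-!
# Systems of centre-axis pairs closed under the transvections they define

`P a α` is to be read "the transvection `x ↦ x + α x • a` lies in a given group".  Over a field
with `2 ≠ 0`, an irreducible system closed under scalars consists either of all pairs or of the
pairs `(a, B a)` of a nondegenerate alternating form.
-/

set_option autoImplicit false
set_option linter.unusedSectionVars false

namespace Cfsg.Agent.Lib.TransvGroups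

open Module

variable {k : Type*} [Field k] {V : Type*} [AddCommGroup V] [Module k V]

/-- A system of centre-axis pairs. -/
structure Sys (P : V → Dual k V → Prop) : Prop where
  ne_left : ∀ {a α}, P a α → a ≠ 0
  ne_right : ∀ {a α}, P a α → α ≠ 0
  orth : ∀ {a α}, P a α → α a = 0
  add_left : ∀ {a b α}, P a α → P b α → a + b ≠ 0 → P (a + b) α
  add_right : ∀ {a α β}, P a α → P a β → α + β ≠ 0 → P a (α + β)
  smul_left : ∀ {a α} (c : k), c ≠ 0 → P a α → P (c • a) α
  smul_right : ∀ {a α} (c : k), c ≠ 0 → P a α → P a (c • α)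
  conj : ∀ {a α b β}, P a α → P b β → P (a + β a • b) (α - α b • β)

/-- Only `⊥` and `⊤` are invariant. -/
def Irred (P : V → Dual k V → Prop) : Prop :=
  ∀ U : Submodule k V, U ≠ ⊥ → (∀ a α, P a α → ∀ u ∈ U, α u • a ∈ U) → U = ⊤

namespace Sys

variable {P : V → Dual k V → Prop} (hP : Sys P)
include hP

theorem conj_smul {a b : V} {α β : Dual k V} (ha : P a α) (hb : P b β) (t : k) :
    P (a + (t * β a) • b) (α - (t * α b) • β) := by
  by_cases ht : t = 0
  · simpa [ht] using ha
  have h := hP.conj ha (hP.smul_right t ht hb)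
  rwa [LinearMap.smul_apply, smul_eq_mul, smul_smul, mul_comm (α b) t] at h

theorem one_sided {a b : V} {α β : Dual k V} (ha : P a α) (hb : P b β) (h0 : β a = 0)
    (h1 : α b ≠ 0) : P a β := by
  have h := hP.conj hb ha
  rw [h0, zero_smul, sub_zero] at h
  have h2 : P (b + α b • a + (-1 : k) • b) β :=
    hP.add_left h (hP.smul_left _ (by simp) hb) (by
      rw [show b + α b • a + (-1 : k) • b = α b • a by module]
      exact smul_ne_zero h1 (hP.ne_left ha))
  rw [show b + α b • a + (-1 : k) • b = α b • a by module] at h2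
  have h3 := hP.smul_left (α b)⁻¹ (inv_ne_zero h1) h2
  rwa [smul_smul, inv_mul_cancel₀ h1, one_smul] at h3

/-- The axes of the pairs with centre `a`, with zero. -/
def axes (hP : Sys P) (a : V) : Submodule k (Dual k V) where
  carrier := {α | α = 0 ∨ P a α}
  zero_mem' := Or.inl rfl
  add_mem' := by
    rintro α β (rfl | hα) (rfl | hβ)
    · simp
    · simp [hβ]
    · simp [hα]
    · by_cases h : α + β = 0
      · exact Or.inl h
      · exact Or.inr (hP.add_right hα hβ h)
  smul_mem' := by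
    rintro c α (rfl | hα)
    · simp
    · by_cases hc : c = 0
      · simp [hc]
      · exact Or.inr (hP.smul_right c hc hα)

theorem mem_axes {a : V} {α : Dual k V} (hα : α ≠ 0) : α ∈ hP.axes a ↔ P a α := by
  change α = 0 ∨ P a α ↔ _
  simp [hα]

theorem mem_axes_of {a : V} {α : Dual k V} (h : P a α) : α ∈ hP.axes a := Or.inr h

theorem axes_apply {a : V} {α : Dual k V} (h : α ∈ hP.axes a) : α a = 0 := by
  rcases h with rfl | h
  · rfl
  · exact hP.orth h

variable (hI : Irred P)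
include hI

/-- If a non-empty family of pairs can follow conjugation, its axes have no common zero. -/
theorem eq_zero_of_axes_kill (Q : V → Dual k V → Prop) (hQP : ∀ a α, Q a α → P a α)
    (hne : ∃ a α, Q a α)
    (hQ : ∀ a α b β, Q a α → P b β → α b ≠ 0 →
      ∃ t : k, t ≠ 0 ∧ ∃ a', Q a' (α - (t * α b) • β))
    {x : V} (hx : ∀ a α, Q a α → α x = 0) : x = 0 := by
  let U : Submodule k V :=
    { carrier := {u | ∀ a α, Q a α → α u = 0}
      zero_mem' := fun a α _ => map_zero α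
      add_mem' := fun hu hv a α h => by rw [map_add, hu a α h, hv a α h, add_zero]
      smul_mem' := fun c u hu a α h => by rw [map_smul, hu a α h, smul_zero] }
  by_contra hx0
  have hUne : U ≠ ⊥ := fun h => hx0 (by
    have : x ∈ U := hx
    rwa [h, Submodule.mem_bot] at this)
  have htop : U = ⊤ := by
    refine hI U hUne fun b β hb u hu a α hα => ?_
    rw [map_smul, smul_eq_mul]
    by_cases hab : α b = 0
    · rw [hab, mul_zero]
    obtain ⟨t, ht, a', ha'⟩ := hQ a α b β hα hb hab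
    have h := hu a' _ ha'
    rw [LinearMap.sub_apply, LinearMap.smul_apply, hu a α hα, smul_eq_mul, zero_sub, neg_eq_zero,
      mul_eq_zero, mul_eq_zero] at h
    rw [(h.resolve_left (not_or.2 ⟨ht, hab⟩)), zero_mul]
  obtain ⟨a, α, hα⟩ := hne
  refine hP.ne_right (hQP a α hα) (LinearMap.ext fun u => ?_)
  have hu : u ∈ U := htop ▸ Submodule.mem_top
  exact hu a α hα

/-- If a non-empty set of centres can follow conjugation, it spans. -/
theorem span_centres_eq_top (S : Set V) (hne : ∃ a ∈ S, a ≠ 0)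
    (hS : ∀ a ∈ S, ∀ b β, P b β → β a ≠ 0 → ∃ t : k, t ≠ 0 ∧ a + (t * β a) • b ∈ S) :
    Submodule.span k S = ⊤ := by
  refine hI _ ?_ fun b β hb u hu => ?_
  · obtain ⟨a, ha, ha0⟩ := hne
    exact fun h => ha0 (by
      have := Submodule.subset_span (R := k) ha
      rwa [h, SetLike.mem_coe, Submodule.mem_bot] at this)
  · induction hu using Submodule.span_induction with
    | mem a ha =>
      by_cases h : β a = 0
      · simp [h]
      obtain ⟨t, ht, hmem⟩ := hS a ha b β hb h
      have h1 := Submodule.sub_mem _ (Submodule.subset_span (R := k) hmem) (Submodule.subset_span ha)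
      rw [add_sub_cancel_left, mul_smul] at h1
      rwa [Submodule.smul_mem_iff _ ht] at h1
    | zero => simp
    | add x y _ _ hx hy => rw [map_add, add_smul]; exact Submodule.add_mem _ hx hy
    | smul c x _ hx => rw [map_smul, smul_assoc]; exact Submodule.smul_mem _ c hx

theorem exists_axis_ne_zero (hne : ∃ a α, P a α) {x : V} (hx : x ≠ 0) :
    ∃ a α, P a α ∧ α x ≠ 0 := by
  by_contra h
  push Not at h
  exact hx (hP.eq_zero_of_axes_kill hI P (fun _ _ => id) hne
    (fun a α b β ha hb _ => ⟨1, one_ne_zero, _, hP.conj_smul ha hb 1⟩) fun a α => h a α)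

theorem exists_centre_ne_zero (hne : ∃ a α, P a α) {φ : Dual k V} (hφ : φ ≠ 0) :
    ∃ a α, P a α ∧ φ a ≠ 0 := by
  by_contra h
  push Not at h
  refine hφ ?_
  have htop := hP.span_centres_eq_top hI {a | ∃ α, P a α}
    (by obtain ⟨a, α, ha⟩ := hne; exact ⟨a, ⟨α, ha⟩, hP.ne_left ha⟩)
    fun a ⟨α, ha⟩ b β hb _ => ⟨1, one_ne_zero, _, hP.conj_smul ha hb 1⟩
  refine LinearMap.ext fun u => ?_
  have hu : u ∈ Submodule.span k {a | ∃ α, P a α} := htop ▸ Submodule.mem_top
  induction hu using Submodule.span_induction with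
  | mem a ha => exact h a _ ha.choose_spec
  | zero => simp
  | add x y _ _ hx hy => simp_all
  | smul c x _ hx => simp_all

omit hI in
/-- One of two non-zero scalars avoids a root of an affine function non-zero at `0`. -/
theorem exists_affine_ne_zero (h2 : (2 : k) ≠ 0) {A : k} (B : k) (hA : A ≠ 0) :
    ∃ t : k, t ≠ 0 ∧ A + t * B ≠ 0 := by
  by_contra h
  push Not at h
  have e1 := h 1 one_ne_zero
  have e2 := h (-1) (by simp)
  refine hA (mul_left_cancel₀ h2 ?_)
  linear_combination e1 + e2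

variable (h2 : (2 : k) ≠ 0) (hne : ∃ a α, P a α)
include h2 hne

theorem three_aux {x y : V} {r s : k} (hr : r ≠ 0) (hs : s ≠ 0) (hz0 : r • x + s • y ≠ 0)
    (hnone : ∀ c γ, P c γ → γ x = 0 ∨ γ y = 0 ∨ γ (r • x + s • y) = 0)
    (hQne : ∃ c γ, P c γ ∧ γ (r • x + s • y) = 0 ∧ γ x ≠ 0) : False := by
  set z := r • x + s • y with hz
  refine hz0 (hP.eq_zero_of_axes_kill hI (fun c γ => P c γ ∧ γ z = 0 ∧ γ x ≠ 0)
    (fun c γ h => h.1) hQne (fun c γ d δ hc hd hcd => ?_) fun c γ h => h.2.1)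
  obtain ⟨hc, hcz, hcx⟩ := hc
  have hcy : γ y ≠ 0 := fun h => hcx (by
    rw [hz, map_add, map_smul, map_smul, h, smul_zero, add_zero, smul_eq_mul] at hcz
    exact (mul_eq_zero.1 hcz).resolve_left hr)
  have ev : ∀ (t : k) (w : V), (γ - (t * γ d) • δ) w = γ w + t * (-(γ d * δ w)) := fun t w => by
    simp; ring
  by_cases hdz : δ z = 0
  · obtain ⟨t, ht, htx⟩ := exists_affine_ne_zero (P := P) hP h2 (-(γ d * δ x)) hcx
    exact ⟨t, ht, _, hP.conj_smul hc hd t, by rw [ev, hcz, hdz]; ring, by rw [ev]; exact htx⟩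
  exfalso
  have hvz : ∀ t : k, t ≠ 0 → (γ - (t * γ d) • δ) z ≠ 0 := fun t ht => by
    rw [ev, hcz, zero_add]; exact mul_ne_zero ht (neg_ne_zero.2 (mul_ne_zero hcd hdz))
  rcases hnone d δ hd with h | h | h
  · obtain ⟨t, ht, hty⟩ := exists_affine_ne_zero (P := P) hP h2 (-(γ d * δ y)) hcy
    rcases hnone _ _ (hP.conj_smul hc hd t) with h' | h' | h'
    · rw [ev, h] at h'; exact hcx (by simpa using h')
    · exact hty (by rwa [ev] at h')
    · exact hvz t ht h'
  · obtain ⟨t, ht, htx⟩ := exists_affine_ne_zero (P := P) hP h2 (-(γ d * δ x)) hcx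
    rcases hnone _ _ (hP.conj_smul hc hd t) with h' | h' | h'
    · exact htx (by rwa [ev] at h')
    · rw [ev, h] at h'; exact hcy (by simpa using h')
    · exact hvz t ht h'
  · exact hdz h

/-- Some axis avoids three given pairwise independent vectors of a plane. -/
theorem exists_axis_three {a b : V} {s : k} (ha : a ≠ 0) (hs : s ≠ 0) (hv : a + s • b ≠ 0)
    (hb : b ≠ 0) : ∃ c γ, P c γ ∧ γ a ≠ 0 ∧ γ b ≠ 0 ∧ γ (a + s • b) ≠ 0 := by
  by_contra hnone
  push Not at hnone
  obtain ⟨c, γ, hc, hca⟩ := hP.exists_axis_ne_zero hI hne ha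
  by_cases hcb : γ b = 0
  · -- `b` is a combination of `a` and `a + s • b`
    have hbz : (-s⁻¹) • a + s⁻¹ • (a + s • b) = b := by
      rw [smul_add, smul_smul, inv_mul_cancel₀ hs]; module
    refine hP.three_aux hI h2 hne (x := a) (y := a + s • b) (r := -s⁻¹) (s := s⁻¹) (by simp [hs])
      (inv_ne_zero hs) (hbz.symm ▸ hb) (fun d δ hd => ?_) ⟨c, γ, hc, hbz.symm ▸ hcb, hca⟩
    rw [hbz]
    by_cases h1 : δ a = 0
    · exact Or.inl h1
    by_cases h3 : δ b = 0
    · exact Or.inr (Or.inr h3)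
    exact Or.inr (Or.inl (hnone d δ hd h1 h3))
  · have hcv := hnone c γ hc hca hcb
    refine hP.three_aux hI h2 hne (x := a) (y := b) (r := 1) (s := s) one_ne_zero hs
      (by rwa [one_smul]) (fun d δ hd => ?_) ⟨c, γ, hc, by rwa [one_smul], hca⟩
    rw [one_smul]
    by_cases h1 : δ a = 0
    · exact Or.inl h1
    by_cases h3 : δ b = 0
    · exact Or.inr (Or.inl h3)
    exact Or.inr (Or.inr (hnone d δ hd h1 h3))

theorem centre_add_of_axis {a b : V} {α β : Dual k V} (ha : P a α) (hb : P b β) (h : α b ≠ 0)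
    (t : k) : ∃ γ, P (b + t • a) γ := by
  have h1 := hP.conj_smul hb ha (t / α b)
  rw [div_mul_cancel₀ _ h] at h1
  exact ⟨_, h1⟩

/-- Centres are closed under sums. -/
theorem centre_add {a b : V} {α β : Dual k V} (ha : P a α) (hb : P b β) (hv : a + b ≠ 0) :
    ∃ γ, P (a + b) γ := by
  by_cases h1 : α b ≠ 0
  · obtain ⟨γ, hγ⟩ := hP.centre_add_of_axis hI h2 hne ha hb h1 1
    rw [one_smul, add_comm] at hγ
    exact ⟨γ, hγ⟩
  by_cases h3 : β a ≠ 0
  · obtain ⟨γ, hγ⟩ := hP.centre_add_of_axis hI h2 hne hb ha h3 1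
    rw [one_smul] at hγ
    exact ⟨γ, hγ⟩
  push Not at h1 h3
  have hav : α (a + b) = 0 := by rw [map_add, hP.orth ha, h1, add_zero]
  -- a pair whose axis avoids `a`, `b`, `a + b` and whose centre avoids `ker α`
  obtain ⟨c, γ, hc, hca, hcb, hcv, hαc⟩ :
      ∃ c γ, P c γ ∧ γ a ≠ 0 ∧ γ b ≠ 0 ∧ γ (a + b) ≠ 0 ∧ α c ≠ 0 := by
    obtain ⟨c, γ, hc, hca, hcb, hcv⟩ := hP.exists_axis_three hI h2 hne (hP.ne_left ha)
      (one_ne_zero (α := k)) (by rwa [one_smul]) (hP.ne_left hb)
    rw [one_smul] at hcv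
    by_cases hαc : α c ≠ 0
    · exact ⟨c, γ, hc, hca, hcb, hcv, hαc⟩
    push Not at hαc
    obtain ⟨d, δ, hd, hαd, hdc⟩ : ∃ d δ, P d δ ∧ α d ≠ 0 ∧ δ c ≠ 0 := by
      by_contra hno
      push Not at hno
      refine hP.ne_left hc (hP.eq_zero_of_axes_kill hI (fun d δ => P d δ ∧ α d ≠ 0)
        (fun _ _ h => h.1) ?_ ?_ fun d δ h => hno d δ h.1 h.2)
      · exact hP.exists_centre_ne_zero hI hne (hP.ne_right ha)
      · rintro d δ e ε ⟨hd, hαd⟩ he -
        obtain ⟨t, ht, h⟩ := exists_affine_ne_zero (P := P) hP h2 (ε d * α e) hαd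
        refine ⟨t, ht, _, hP.conj_smul hd he t, ?_⟩
        rw [map_add, map_smul, smul_eq_mul, mul_assoc]; exact h
    have hcα : P c α := hP.one_sided hc ha hαc hca
    set m := -(γ d / α d) with hm
    have hγ' : P c (γ + m • α) := by
      by_cases hm0 : m = 0
      · simpa [hm0] using hc
      refine hP.add_right hc (hP.smul_right m hm0 hcα) fun h => hca ?_
      have := LinearMap.congr_fun h a
      simpa [hP.orth ha] using this
    have hd0 : (γ + m • α) d = 0 := by
      simp [hm]; field_simp; ring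
    have hc' := hP.conj hγ' hd
    rw [hd0, zero_smul, sub_zero] at hc'
    refine ⟨_, _, hc', ?_, ?_, ?_, ?_⟩
    · simpa [hP.orth ha] using hca
    · simpa [h1] using hcb
    · simpa [hav] using hcv
    · rw [map_add, map_smul, hαc, zero_add, smul_eq_mul]; exact mul_ne_zero hdc hαd
  set x := a + γ a • c with hx
  set ξ := α - α c • γ with hξ
  have hxξ : P x ξ := hP.conj ha hc
  obtain ⟨η, hy⟩ : ∃ η, P (b + (-γ a) • c) η :=
    hP.centre_add_of_axis hI h2 hne hc hb hcb (-γ a)
  have hxy : b + (-γ a) • c + x = a + b := by rw [hx]; module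
  have hξy : ξ (b + (-γ a) • c) ≠ 0 := by
    have h0 : ξ (b + (-γ a) • c) = ξ (a + b) - ξ x := by rw [← hxy]; simp only [map_add]; ring
    rw [h0, hP.orth hxξ, sub_zero, hξ, LinearMap.sub_apply, LinearMap.smul_apply, hav,
      smul_eq_mul, zero_sub, neg_ne_zero]
    exact mul_ne_zero hαc hcv
  obtain ⟨θ, hθ⟩ := hP.centre_add_of_axis hI h2 hne hxξ hy hξy 1
  rw [one_smul, hxy] at hθ
  exact ⟨θ, hθ⟩

/-- Every non-zero vector is a centre. -/
theorem exists_axis {v : V} (hv : v ≠ 0) : ∃ α, P v α := by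
  let U : Submodule k V :=
    { carrier := {u | u = 0 ∨ ∃ α, P u α}
      zero_mem' := Or.inl rfl
      add_mem' := by
        rintro u w (rfl | ⟨α, hα⟩) (rfl | ⟨β, hβ⟩)
        · simp
        · exact Or.inr ⟨β, by rwa [zero_add]⟩
        · exact Or.inr ⟨α, by rwa [add_zero]⟩
        · by_cases h : u + w = 0
          · exact Or.inl h
          · exact Or.inr (hP.centre_add hI h2 hne hα hβ h)
      smul_mem' := by
        rintro c u (rfl | ⟨α, hα⟩)
        · simp
        · by_cases hc : c = 0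
          · exact Or.inl (by simp [hc])
          · exact Or.inr ⟨α, hP.smul_left c hc hα⟩ }
  obtain ⟨a, α, ha⟩ := hne
  have htop : U = ⊤ := by
    refine hI U (fun h => hP.ne_left ha ?_) fun b β hb u _ => U.smul_mem _ (Or.inr ⟨β, hb⟩)
    have : a ∈ U := Or.inr ⟨α, ha⟩
    rwa [h, Submodule.mem_bot] at this
  have hu : v ∈ U := htop ▸ Submodule.mem_top
  exact hu.resolve_left hv

variable [FiniteDimensional k V]

omit hI h2 hne in
/-- Conjugation does not lower the number of axes of a centre. -/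
theorem finrank_axes_le {q b : V} {β : Dual k V} (hb : P b β) (hq : β q ≠ 0) (t : k) :
    finrank k (hP.axes q) ≤ finrank k (hP.axes (q + (t * β q) • b)) := by
  let T : Dual k V →ₗ[k] Dual k V :=
    { toFun := fun α => α - (t * α b) • β
      map_add' := fun α α' => by simp only [LinearMap.add_apply]; module
      map_smul' := fun c α => by
        simp only [LinearMap.smul_apply, smul_eq_mul, RingHom.id_apply]; module }
  have hT : ∀ α : Dual k V, T α = α - (t * α b) • β := fun α => rfl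
  have hmem : ∀ α ∈ hP.axes q, T α ∈ hP.axes (q + (t * β q) • b) := by
    rintro α (rfl | hα)
    · simp
    · exact Or.inr (hP.conj_smul hα hb t)
  refine LinearMap.finrank_le_finrank_of_injective (f := (T ∘ₗ (hP.axes q).subtype).codRestrict _
    fun α => hmem α α.2) ?_
  refine (injective_iff_map_eq_zero _).2 ?_
  rintro ⟨α, hα⟩ h
  have h0 : T α = 0 := congrArg Subtype.val h
  rw [hT, sub_eq_zero] at h0
  have h1 := LinearMap.congr_fun h0 q
  rw [hP.axes_apply hα, LinearMap.smul_apply, smul_eq_mul, eq_comm, mul_eq_zero] at h1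
  apply Subtype.ext
  show α = 0
  rw [h0, h1.resolve_right hq, zero_smul]

/-- If some centre has two independent axes then all pairs occur. -/
theorem all_pairs {a₀ : V} (h0 : 2 ≤ finrank k (hP.axes a₀)) {b : V} {φ : Dual k V} (hb0 : b ≠ 0)
    (hφ : φ ≠ 0) (hφb : φ b = 0) : P b φ := by
  classical
  set R : Set ℕ := Set.range fun a => finrank k (hP.axes a)
  have hbdd : BddAbove R :=
    ⟨finrank k (Dual k V), by rintro _ ⟨a, rfl⟩; exact Submodule.finrank_le _⟩
  set m := sSup R with hm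
  have hle : ∀ a, finrank k (hP.axes a) ≤ m := fun a => le_csSup hbdd ⟨a, rfl⟩
  have hm2 : 2 ≤ m := h0.trans (hle a₀)
  obtain ⟨a₁, ha₁⟩ : m ∈ R := Nat.sSup_mem ⟨_, ⟨a₀, rfl⟩⟩ hbdd
  set Q : Set V := {q | finrank k (hP.axes q) = m} with hQ
  have hQne : ∀ q ∈ Q, q ≠ 0 := by
    rintro q hq rfl
    have h : hP.axes (0 : V) = ⊥ := by
      rw [eq_bot_iff]
      rintro α (rfl | hα)
      · exact zero_mem _
      · exact absurd rfl (hP.ne_left hα)
    have hq' : finrank k (hP.axes (0 : V)) = m := hq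
    rw [h, finrank_bot] at hq'
    omega
  have hQinv : ∀ q ∈ Q, ∀ c γ, P c γ → γ q ≠ 0 → ∀ t : k, q + (t * γ q) • c ∈ Q :=
    fun q hq c γ hc hq' t =>
      le_antisymm (hle _) ((Eq.ge hq).trans (hP.finrank_axes_le hc hq' t))
  have hQspan : Submodule.span k Q = ⊤ :=
    hP.span_centres_eq_top hI Q ⟨a₁, ha₁, hQne a₁ ha₁⟩
      fun q hq c γ hc hq' => ⟨1, one_ne_zero, hQinv q hq c γ hc hq' 1⟩
  have hQsep : ∀ ψ : Dual k V, ψ ≠ 0 → ∃ q ∈ Q, ψ q ≠ 0 := by
    intro ψ hψ
    by_contra h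
    push Not at h
    exact hψ (LinearMap.ext_on hQspan fun q hq => by simp [h q hq])
  suffices hkey : ∀ a ∈ Q, ∀ ψ : Dual k V, ψ a = 0 → ψ ∈ hP.axes a by
    obtain ⟨β, hβ⟩ := hP.exists_axis hI h2 hne hb0
    obtain ⟨a', ha', hβa'⟩ := hQsep β (hP.ne_right hβ)
    set c := φ a' / β a'
    have hβmem : c • β ∈ hP.axes b := Submodule.smul_mem _ c (hP.mem_axes_of hβ)
    have hmem : φ - c • β ∈ hP.axes b := by
      by_cases h : φ - c • β = 0
      · rw [h]; exact zero_mem _
      have h' : P a' (φ - c • β) := (hP.mem_axes h).1 (hkey a' ha' _ (by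
        simp [c, div_mul_cancel₀ _ hβa']))
      exact hP.mem_axes_of (hP.one_sided hβ h' (by simp [hφb, hP.orth hβ]) hβa')
    exact (hP.mem_axes hφ).1 (by simpa using Submodule.add_mem _ hmem hβmem)
  intro a ha
  have ham : finrank k (hP.axes a) = m := ha
  set K := (hP.axes a).dualCoannihilator with hK
  have haK : a ∈ K := (Submodule.mem_dualCoannihilator _).2 fun α hα => hP.axes_apply hα
  have memK : ∀ {x : V}, x ∈ K → ∀ α ∈ hP.axes a, α x = 0 :=
    fun {x} hx α hα => (Submodule.mem_dualCoannihilator _).1 hx α hα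
  have F1 : ∀ c γ, P c γ → c ∉ K → γ a = 0 → γ ∈ hP.axes a := by
    intro c γ hc hcK hγa
    obtain ⟨α, hα, hαc⟩ : ∃ α ∈ hP.axes a, α c ≠ 0 := by
      by_contra h
      push Not at h
      exact hcK ((Submodule.mem_dualCoannihilator _).2 h)
    have hα' : P a α := (hP.mem_axes (fun h => hαc (by simp [h]))).1 hα
    exact hP.mem_axes_of (hP.one_sided hα' hc hγa hαc)
  have F2 : ∀ x ξ, P x ξ → x ∈ K → ξ a = 0 := by
    intro x ξ hx hxK
    by_contra hξa
    have hle' : hP.axes a ≤ hP.axes x := by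
      intro α hα
      by_cases h : α = 0
      · rw [h]; exact zero_mem _
      exact hP.mem_axes_of (hP.one_sided hx ((hP.mem_axes h).1 hα) (memK hxK α hα) hξa)
    have hlt : hP.axes a < hP.axes x :=
      lt_of_le_of_ne hle' fun h => hξa (hP.axes_apply (h ▸ hP.mem_axes_of hx))
    have := Submodule.finrank_lt_finrank_of_lt hlt
    have := hle x
    omega
  have hKtop : K ≠ ⊤ := by
    intro h
    have hbot : hP.axes a = ⊥ := eq_bot_iff.2 fun α hα =>
      (Submodule.mem_bot k).2 (LinearMap.ext fun u => memK (h ▸ Submodule.mem_top) α hα)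
    rw [hbot, finrank_bot] at ham
    omega
  have hKline : ∀ x ∈ K, x ∈ Submodule.span k {a} := by
    intro x hx
    by_contra hxa
    obtain ⟨c, γ, hc, hcK, u, hu, hγu⟩ :
        ∃ c γ, P c γ ∧ c ∉ K ∧ ∃ u ∈ K, γ u ≠ 0 := by
      by_contra h
      push Not at h
      refine hKtop (hI K (fun h' => hQne a ha (by rwa [h', Submodule.mem_bot] at haK))
        fun e ε he w hw => ?_)
      by_cases heK : e ∈ K
      · exact Submodule.smul_mem _ _ heK
      · rw [h e ε he heK w hw, zero_smul]; exact zero_mem _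
    have hγa : γ a ≠ 0 := fun h => hγu (memK hu γ (F1 c γ hc hcK h))
    set l := x - (γ x / γ a) • a with hl
    have hlK : l ∈ K := Submodule.sub_mem _ hx (Submodule.smul_mem _ _ haK)
    have hl0 : l ≠ 0 := fun h => hxa (Submodule.mem_span_singleton.2 ⟨_, (sub_eq_zero.1 h).symm⟩)
    have hγl : γ l = 0 := by simp [hl, div_mul_cancel₀ _ hγa]
    have F3 : ∀ ξ ∈ hP.axes l, ξ c = 0 := by
      intro ξ hξ
      by_contra hξc
      exact hγa (F2 l γ (hP.one_sided ((hP.mem_axes (fun h => hξc (by simp [h]))).1 hξ) hc hγl hξc)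
        hlK)
    obtain ⟨ξ, hξ⟩ := hP.exists_axis hI h2 hne hl0
    set S : Set V := {q | q ∈ Q ∧ ξ q ≠ 0} with hS
    have hSspan : Submodule.span k S = ⊤ := by
      obtain ⟨q, hq, hξq⟩ := hQsep ξ (hP.ne_right hξ)
      refine hP.span_centres_eq_top hI S ⟨q, ⟨hq, hξq⟩, hQne q hq⟩ ?_
      rintro q' ⟨hq', hξq'⟩ e ε he hεq'
      obtain ⟨t, ht, h⟩ := exists_affine_ne_zero (P := P) hP h2 (ε q' * ξ e) hξq'
      refine ⟨t, ht, hQinv q' hq' e ε he hεq' t, ?_⟩
      rw [map_add, map_smul, smul_eq_mul, mul_assoc]; exact h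
    have step : ∀ e ∈ S, e ∉ K → ∀ α ∈ hP.axes a, α e = 0 → α ∈ hP.axes l := by
      rintro e ⟨heQ, hξe⟩ heK α hα hαe
      by_cases h : α = 0
      · rw [h]; exact zero_mem _
      obtain ⟨β, hβ, hβa⟩ : ∃ β, P e β ∧ β a ≠ 0 := by
        by_contra hno
        push Not at hno
        have hsub : hP.axes e ≤ hP.axes a := by
          intro β hβ
          by_cases hβ0 : β = 0
          · rw [hβ0]; exact zero_mem _
          have hβ' := (hP.mem_axes hβ0).1 hβ
          exact F1 e β hβ' heK (hno β hβ')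
        have heq : hP.axes e = hP.axes a :=
          Submodule.eq_of_le_of_finrank_eq hsub (heQ.trans ham.symm)
        exact heK ((Submodule.mem_dualCoannihilator _).2 fun β hβ => hP.axes_apply (heq ▸ hβ))
      have heα : P e α := hP.one_sided hβ ((hP.mem_axes h).1 hα) hαe hβa
      exact hP.mem_axes_of (hP.one_sided hξ heα (memK hlK α hα) hξe)
    obtain ⟨e, heS, heK⟩ : ∃ e ∈ S, e ∉ K := by
      by_contra h
      push Not at h
      exact hKtop (top_le_iff.1 (hSspan ▸ Submodule.span_le.2 h))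
    obtain ⟨α₀, hα₀, hα₀e, hα₀0⟩ : ∃ α₀ ∈ hP.axes a, α₀ e = 0 ∧ α₀ ≠ 0 := by
      by_contra h
      push Not at h
      have hinj : Function.Injective ((Dual.eval k V e).comp (hP.axes a).subtype) := by
        refine (injective_iff_map_eq_zero _).2 ?_
        rintro ⟨α, hα⟩ hαe
        exact Subtype.ext (h α hα hαe)
      have := LinearMap.finrank_le_finrank_of_injective hinj
      rw [Module.finrank_self] at this
      omega
    obtain ⟨e', he'S, hα₀e'⟩ : ∃ e' ∈ S, α₀ e' ≠ 0 := by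
      by_contra h
      push Not at h
      exact hα₀0 (LinearMap.ext_on hSspan fun q hq => by simp [h q hq])
    have he'K : e' ∉ K := fun h => hα₀e' (memK h α₀ hα₀)
    refine hcK ((Submodule.mem_dualCoannihilator _).2 fun α hα => F3 α ?_)
    set r := α e' / α₀ e'
    have h1 : α - r • α₀ ∈ hP.axes l := step e' he'S he'K _
      (Submodule.sub_mem _ hα (Submodule.smul_mem _ _ hα₀))
      (by simp [r, div_mul_cancel₀ _ hα₀e'])
    simpa using Submodule.add_mem _ h1 (Submodule.smul_mem _ r (step e heS heK α₀ hα₀ hα₀e))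
  intro ψ hψ
  rw [← Subspace.dualCoannihilator_dualAnnihilator_eq (W := hP.axes a)]
  refine (Submodule.mem_dualAnnihilator _).2 fun u hu => ?_
  obtain ⟨s, rfl⟩ := Submodule.mem_span_singleton.1 (hKline u hu)
  rw [map_smul, hψ, smul_zero]

omit [FiniteDimensional k V] hI h2 hne in
/-- If one kernel is contained in another the functionals are proportional. -/
theorem exists_smul_eq_of_ker {f g : Dual k V} (hf : f ≠ 0) (h : ∀ w, f w = 0 → g w = 0) :
    ∃ c : k, g = c • f := by
  obtain ⟨z, hz⟩ : ∃ z, f z ≠ 0 := by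
    by_contra hh
    push Not at hh
    exact hf (LinearMap.ext hh)
  refine ⟨g z / f z, LinearMap.ext fun w => ?_⟩
  have h1 := h (w - (f w / f z) • z) (by simp [div_mul_cancel₀ _ hz])
  rw [map_sub, map_smul, smul_eq_mul, sub_eq_zero] at h1
  rw [LinearMap.smul_apply, smul_eq_mul, h1]
  ring

omit [FiniteDimensional k V] in
/-- If all centres have one axis up to scalars, the pairs come from an alternating form. -/
theorem symp (hline : ∀ a α β, P a α → P a β → ∃ c : k, β = c • α) :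
    ∃ B : V →ₗ[k] V →ₗ[k] k, Symplectic.IsSympForm B ∧
      ∀ a α, P a α ↔ a ≠ 0 ∧ ∃ c : k, c ≠ 0 ∧ α = c • B a := by
  classical
  have symm : ∀ {a α b β}, P a α → P b β → α b ≠ 0 → β a ≠ 0 := by
    intro a α b β ha hb h h'
    obtain ⟨c, hc⟩ := hline a α β ha (hP.one_sided ha hb h' h)
    have h1 := LinearMap.congr_fun hc b
    rw [hP.orth hb, LinearMap.smul_apply, smul_eq_mul, eq_comm, mul_eq_zero] at h1
    exact hP.ne_right hb (by rw [hc, h1.resolve_right h, zero_smul])
  have inj : ∀ {a b α}, P a α → P b α → ∃ s : k, b = s • a := by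
    intro a b α ha hb
    obtain ⟨c, γ, hc, hca⟩ := hP.exists_axis_ne_zero hI hne (hP.ne_left ha)
    refine ⟨γ b / γ a, ?_⟩
    by_contra hne'
    have hb' : P (b + (-(γ b / γ a)) • a) α := by
      by_cases h : γ b / γ a = 0
      · simpa [h] using hb
      refine hP.add_left hb (hP.smul_left _ (neg_ne_zero.2 h) ha) fun h' => hne' ?_
      rw [neg_smul, ← sub_eq_add_neg, sub_eq_zero] at h'
      exact h'
    refine symm hb' hc (symm hc ha hca) ?_
    simp [div_mul_cancel₀ _ hca]
  obtain ⟨a₀, α₀, h₀⟩ := id hne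
  have hex : ∀ x, α₀ x ≠ 0 → ∃ ξ, P x ξ ∧ ξ a₀ = -α₀ x := by
    intro x hx
    obtain ⟨ξ, hξ⟩ := hP.exists_axis hI h2 hne (fun h : x = 0 => hx (by simp [h]))
    have hξ0 : ξ a₀ ≠ 0 := symm h₀ hξ hx
    refine ⟨(-α₀ x / ξ a₀) • ξ, hP.smul_right _ (div_ne_zero (neg_ne_zero.2 hx) hξ0) hξ, ?_⟩
    simp [div_mul_cancel₀ _ hξ0]
  choose! φ hφP hφ0 using hex
  have uniq : ∀ {x ξ}, α₀ x ≠ 0 → P x ξ → ξ a₀ = -α₀ x → ξ = φ x := by
    intro x ξ hx hξ h
    obtain ⟨c, hc⟩ := hline x _ _ (hφP x hx) hξ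
    have h1 := LinearMap.congr_fun hc a₀
    rw [h, LinearMap.smul_apply, hφ0 x hx, smul_eq_mul] at h1
    have hc1 : c = 1 := by
      refine mul_right_cancel₀ (neg_ne_zero.2 hx) ?_
      linear_combination -h1
    rw [hc, hc1, one_smul]
  have shift : ∀ x (t : k), α₀ x ≠ 0 → φ (x + t • a₀) = φ x + t • α₀ := by
    intro x t hx
    have h := hP.conj_smul (hφP x hx) h₀ (t / α₀ x)
    rw [div_mul_cancel₀ _ hx, hφ0 x hx, mul_neg, div_mul_cancel₀ _ hx,
      show φ x - (-t) • α₀ = φ x + t • α₀ by module] at h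
    refine (uniq ?_ h ?_).symm
    · simpa [hP.orth h₀] using hx
    · simp [hP.orth h₀, hφ0 x hx]
  have hD : ∀ x y, α₀ x ≠ 0 → α₀ y ≠ 0 → φ x y = -φ y x := by
    intro x y hx hy
    set t := -φ x y / α₀ y with ht
    have hx' : α₀ (x + t • a₀) ≠ 0 := by simpa [hP.orth h₀] using hx
    have h1 : φ (x + t • a₀) y = 0 := by
      rw [shift x t hx, LinearMap.add_apply, LinearMap.smul_apply, smul_eq_mul, ht,
        div_mul_cancel₀ _ hy, add_neg_cancel]
    have h3 : φ y (x + t • a₀) = 0 := by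
      by_contra h
      exact symm (hφP y hy) (hφP _ hx') h h1
    rw [map_add, map_smul, hφ0 y hy, smul_eq_mul, mul_neg, ht, div_mul_cancel₀ _ hy, neg_neg] at h3
    linear_combination h3
  obtain ⟨y₀, hy₀⟩ : ∃ y₀, α₀ y₀ ≠ 0 := by
    by_contra h
    push Not at h
    exact hP.ne_right h₀ (LinearMap.ext h)
  have hoff : ∀ {w}, α₀ w = 0 → α₀ (w + y₀) ≠ 0 := fun {w} hw => by simpa [hw] using hy₀
  have ext_off : ∀ f g : Dual k V, (∀ y, α₀ y ≠ 0 → f y = g y) → f = g := by
    intro f g h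
    refine LinearMap.ext fun w => ?_
    by_cases hw : α₀ w = 0
    · have h1 := h _ (hoff hw)
      rw [map_add, map_add, h y₀ hy₀] at h1
      exact add_right_cancel h1
    · exact h w hw
  set Φ : V → Dual k V := fun x => if α₀ x ≠ 0 then φ x else φ (x + y₀) - φ y₀ with hΦ
  have hΦev : ∀ x y, α₀ y ≠ 0 → Φ x y = -φ y x := by
    intro x y hy
    by_cases hx : α₀ x = 0
    · simp only [hΦ, hx, ne_eq, not_true_eq_false, if_false, LinearMap.sub_apply,
        hD _ _ (hoff hx) hy, hD _ _ hy₀ hy, map_add]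
      ring
    · simp only [hΦ, ne_eq, hx, not_false_eq_true, if_true, hD x y hx hy]
  let B : V →ₗ[k] V →ₗ[k] k :=
    { toFun := Φ
      map_add' := fun x x' => ext_off _ _ fun y hy => by
        rw [LinearMap.add_apply, hΦev _ _ hy, hΦev _ _ hy, hΦev _ _ hy, map_add]; ring
      map_smul' := fun c x => ext_off _ _ fun y hy => by
        rw [RingHom.id_apply, LinearMap.smul_apply, hΦev _ _ hy, hΦev _ _ hy, map_smul, smul_eq_mul,
          smul_eq_mul]; ring }
  have hBev : ∀ x y, α₀ y ≠ 0 → B x y = -φ y x := hΦev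
  have hBoff : ∀ x, α₀ x ≠ 0 → B x = φ x := fun x hx => if_pos hx
  have hanti : ∀ x y, B x y = -B y x := by
    intro x y
    by_cases hy : α₀ y = 0
    · have h1 := hBev x _ (hoff hy)
      have h3 := hBev x y₀ hy₀
      rw [← hBoff _ (hoff hy), map_add, map_add, LinearMap.add_apply] at h1
      rw [← hBoff _ hy₀] at h3
      linear_combination h1 - h3
    · rw [hBev x y hy, hBoff y hy]
  have hBsep : ∀ {x ξ}, P x ξ → ∀ y, α₀ y ≠ 0 → (ξ y = 0 ↔ B x y = 0) := by
    intro x ξ hξ y hy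
    rw [hBev x y hy, neg_eq_zero]
    constructor
    · intro h; by_contra h'; exact symm (hφP y hy) hξ h' h
    · intro h; by_contra h'; exact symm hξ (hφP y hy) h' h
  have hB0 : ∀ {x}, x ≠ 0 → B x ≠ 0 := by
    intro x hx h
    obtain ⟨ξ, hξ⟩ := hP.exists_axis hI h2 hne hx
    refine hP.ne_right hξ (ext_off _ _ fun y hy => ?_)
    exact (hBsep hξ y hy).2 (by rw [h]; rfl)
  refine ⟨B, ⟨fun x => ?_, fun x hx => by_contra fun h => hB0 h (LinearMap.ext hx)⟩, ?_⟩
  · refine mul_left_cancel₀ h2 ?_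
    linear_combination hanti x x
  have hax : ∀ {x ξ}, P x ξ → ∃ c : k, c ≠ 0 ∧ ξ = c • B x := by
    intro x ξ hξ
    suffices ∃ c : k, B x = c • ξ by
      obtain ⟨c, hc⟩ := this
      have hc0 : c ≠ 0 := fun h => hB0 (hP.ne_left hξ) (by rw [hc, h, zero_smul])
      exact ⟨c⁻¹, inv_ne_zero hc0, by rw [hc, smul_smul, inv_mul_cancel₀ hc0, one_smul]⟩
    by_cases hx : α₀ x = 0
    · by_cases hz : ∃ z, ξ z = 0 ∧ α₀ z ≠ 0
      · obtain ⟨z, hz, hz'⟩ := hz
        refine exists_smul_eq_of_ker (P := P) hP (hP.ne_right hξ) fun w hw => ?_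
        have hBz : B x z = 0 := (hBsep hξ z hz').1 hz
        by_cases hw' : α₀ w = 0
        · have h1 : B x (w + z) = 0 :=
            (hBsep hξ _ (by simpa [hw'] using hz')).1 (by rw [map_add, hw, hz, add_zero])
          rwa [map_add, hBz, add_zero] at h1
        · exact (hBsep hξ w hw').1 hw
      · push Not at hz
        obtain ⟨c, hc⟩ := exists_smul_eq_of_ker (P := P) hP (hP.ne_right hξ) hz
        have hc0 : c ≠ 0 := fun h => hP.ne_right h₀ (by rw [hc, h, zero_smul])
        have hxα : P x α₀ := hc ▸ hP.smul_right c hc0 hξ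
        obtain ⟨s, hs⟩ := inj h₀ hxα
        have hBa : B a₀ = α₀ := ext_off _ _ fun y hy => by rw [hBev a₀ y hy, hφ0 y hy, neg_neg]
        exact ⟨s * c, by rw [hs, map_smul, hBa, hc, smul_smul]⟩
    · obtain ⟨c, hc⟩ := hline x ξ _ hξ (hφP x hx)
      exact ⟨c, by rw [hBoff x hx, hc]⟩
  intro a α
  refine ⟨fun h => ⟨hP.ne_left h, hax h⟩, ?_⟩
  rintro ⟨ha, c, hc, rfl⟩
  obtain ⟨ξ, hξ⟩ := hP.exists_axis hI h2 hne ha
  obtain ⟨d, hd, rfl⟩ := hax hξ
  have h := hP.smul_right (c * d⁻¹) (mul_ne_zero hc (inv_ne_zero hd)) hξ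
  rwa [smul_smul, mul_assoc, inv_mul_cancel₀ hd, mul_one] at h

end Sys

end Cfsg.Agent.Lib.TransvGroups
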