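import Mathlib
import Cfsg.Agent.Lib.TransvGroups.Sys
import Cfsg.Agent.Lib.Symplectic.Form
import Cfsg.Agent.Lib.Linear.Transvection

/-!
# Irreducible groups generated by transvections over a prime field of odd order

Such a group is the special linear group or the isometry group of a nondegenerate alternating
form.
-/

set_option autoImplicit false

namespace Cfsg.Agent.Lib.TransvGroups

open Module
open scoped Matrix

variable {p : ℕ} [Fact p.Prime] {V : Type*} [AddCommGroup V] [Module (ZMod p) V]

/-- The non-trivial transvection with centre `a` and axis `α` lies in `H`. -/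
def Tv (H : Subgroup (V ≃ₗ[ZMod p] V)) (a : V) (α : Dual (ZMod p) V) : Prop :=
  a ≠ 0 ∧ α ≠ 0 ∧ ∃ h : α a = 0, LinearEquiv.transvection h ∈ H

theorem transvection_congr {α β : Dual (ZMod p) V} {a b : V} (ha : α a = 0) (hb : β b = 0)
    (h1 : α = β) (h2 : a = b) :
    LinearEquiv.transvection ha = LinearEquiv.transvection hb := by
  subst h1; subst h2; rfl

theorem transvection_mul_left {α : Dual (ZMod p) V} {a b : V} (ha : α a = 0) (hb : α b = 0)
    (hab : α (a + b) = 0) :
    LinearEquiv.transvection ha * LinearEquiv.transvection hb = LinearEquiv.transvection hab := by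
  refine LinearEquiv.ext fun x => ?_
  simp only [LinearEquiv.mul_apply, LinearEquiv.transvection.apply, map_add, map_smul, hb,
    smul_zero, add_zero]
  module

theorem transvection_mul_right {α β : Dual (ZMod p) V} {a : V} (hα : α a = 0) (hβ : β a = 0)
    (hαβ : (α + β) a = 0) :
    LinearEquiv.transvection hα * LinearEquiv.transvection hβ = LinearEquiv.transvection hαβ := by
  refine LinearEquiv.ext fun x => ?_
  simp only [LinearEquiv.mul_apply, LinearEquiv.transvection.apply, map_add, map_smul, hα,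
    smul_zero, add_zero, LinearMap.add_apply]
  module

theorem transvection_pow {α : Dual (ZMod p) V} {a : V} (h : α a = 0) (c : ZMod p)
    (hc : (c • α) a = 0) :
    LinearEquiv.transvection h ^ c.val = LinearEquiv.transvection hc := by
  have key : ∀ (n : ℕ) (x : V),
      (LinearEquiv.transvection h ^ n : V ≃ₗ[ZMod p] V) x = x + ((n : ZMod p) * α x) • a := by
    intro n
    induction n with
    | zero => intro x; simp
    | succ n ih =>
      intro x
      rw [pow_succ', LinearEquiv.mul_apply, ih, LinearEquiv.transvection.apply, map_add, map_smul,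
        h, smul_zero, add_zero, Nat.cast_succ]
      module
  refine LinearEquiv.ext fun x => ?_
  rw [key, LinearEquiv.transvection.apply, ZMod.natCast_zmod_val, LinearMap.smul_apply, smul_eq_mul]

theorem transvection_smul_comm {α : Dual (ZMod p) V} {a : V} (c : ZMod p) (h : α (c • a) = 0)
    (h' : (c • α) a = 0) : LinearEquiv.transvection h = LinearEquiv.transvection h' := by
  refine LinearEquiv.ext fun x => ?_
  simp only [LinearEquiv.transvection.apply, LinearMap.smul_apply, smul_eq_mul]
  module

theorem conj_transvection (g : V ≃ₗ[ZMod p] V) {α : Dual (ZMod p) V} {a : V} (h : α a = 0)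
    (h' : (α ∘ₗ (g⁻¹ : V ≃ₗ[ZMod p] V).toLinearMap) (g a) = 0) :
    g * LinearEquiv.transvection h * g⁻¹ = LinearEquiv.transvection h' := by
  refine LinearEquiv.ext fun x => ?_
  simp only [LinearEquiv.mul_apply, LinearEquiv.transvection.apply, map_add, map_smul,
    LinearMap.comp_apply, LinearEquiv.coe_coe]
  rw [← LinearEquiv.mul_apply, mul_inv_cancel, LinearEquiv.coe_one, id_eq]

theorem Tv.conj_mem {H : Subgroup (V ≃ₗ[ZMod p] V)} {g : V ≃ₗ[ZMod p] V} (hg : g ∈ H) {a : V}
    {α : Dual (ZMod p) V} (h : Tv H a α) :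
    Tv H (g a) (α ∘ₗ (g⁻¹ : V ≃ₗ[ZMod p] V).toLinearMap) := by
  obtain ⟨ha, hα, h0, hmem⟩ := h
  have h' : (α ∘ₗ (g⁻¹ : V ≃ₗ[ZMod p] V).toLinearMap) (g a) = 0 := by
    simp only [LinearMap.comp_apply, LinearEquiv.coe_coe]
    rw [← LinearEquiv.mul_apply, inv_mul_cancel, LinearEquiv.coe_one, id_eq, h0]
  refine ⟨fun h => ha (g.map_eq_zero_iff.1 h), fun h => hα (LinearMap.ext fun x => ?_), h', ?_⟩
  · have h1 := LinearMap.congr_fun h (g x)
    simp only [LinearMap.comp_apply, LinearEquiv.coe_coe] at h1
    rwa [← LinearEquiv.mul_apply, inv_mul_cancel, LinearEquiv.coe_one, id_eq] at h1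
  · rw [← conj_transvection g h0 h']
    exact H.mul_mem (H.mul_mem hg hmem) (H.inv_mem hg)

theorem isSys_Tv (H : Subgroup (V ≃ₗ[ZMod p] V)) : Sys (Tv H) where
  ne_left h := h.1
  ne_right h := h.2.1
  orth h := h.2.2.1
  add_left := by
    rintro a b α ⟨-, hα, ha, hma⟩ ⟨-, -, hb, hmb⟩ hne
    have hab : α (a + b) = 0 := by rw [map_add, ha, hb, add_zero]
    exact ⟨hne, hα, hab, transvection_mul_left ha hb hab ▸ H.mul_mem hma hmb⟩
  add_right := by
    rintro a α β ⟨ha0, -, ha, hma⟩ ⟨-, -, hb, hmb⟩ hne
    have hab : (α + β) a = 0 := by rw [LinearMap.add_apply, ha, hb, add_zero]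
    exact ⟨ha0, hne, hab, transvection_mul_right ha hb hab ▸ H.mul_mem hma hmb⟩
  smul_left := by
    rintro a α c hc ⟨ha0, hα, ha, hma⟩
    have h1 : (c • α) a = 0 := by rw [LinearMap.smul_apply, ha, smul_zero]
    have h2 : α (c • a) = 0 := by rw [map_smul, ha, smul_zero]
    refine ⟨smul_ne_zero hc ha0, hα, h2, ?_⟩
    rw [transvection_smul_comm c h2 h1, ← transvection_pow ha c h1]
    exact H.pow_mem hma _
  smul_right := by
    rintro a α c hc ⟨ha0, hα, ha, hma⟩
    have h1 : (c • α) a = 0 := by rw [LinearMap.smul_apply, ha, smul_zero]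
    exact ⟨ha0, smul_ne_zero hc hα, h1, transvection_pow ha c h1 ▸ H.pow_mem hma _⟩
  conj := by
    rintro a α b β hA ⟨hb0, hβ0, hb, hmb⟩
    have h := hA.conj_mem hmb
    have e : α ∘ₗ ((LinearEquiv.transvection hb)⁻¹ : V ≃ₗ[ZMod p] V).toLinearMap =
        α - α b • β := by
      refine LinearMap.ext fun x => ?_
      rw [LinearEquiv.transvection.inv_eq hb (by simp [hb])]
      simp [LinearMap.transvection.apply]
      ring
    rwa [e] at h

/-- Transport a special linear matrix to an automorphism of a space with a basis. -/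
noncomputable def slHom {ι : Type*} [Fintype ι] [DecidableEq ι] (b : Basis ι (ZMod p) V) :
    Matrix.SpecialLinearGroup ι (ZMod p) →* (V ≃ₗ[ZMod p] V) where
  toFun A := b.equivFun.trans ((Matrix.SpecialLinearGroup.toLin' A).trans b.equivFun.symm)
  map_one' := by
    refine LinearEquiv.ext fun x => b.equivFun.injective ?_
    simp only [LinearEquiv.trans_apply, LinearEquiv.apply_symm_apply, LinearEquiv.coe_one, id_eq,
      map_one]
  map_mul' A B := by
    refine LinearEquiv.ext fun x => b.equivFun.injective ?_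
    simp only [LinearEquiv.mul_apply, LinearEquiv.trans_apply, LinearEquiv.apply_symm_apply,
      map_mul]

theorem slHom_apply {ι : Type*} [Fintype ι] [DecidableEq ι] (b : Basis ι (ZMod p) V)
    (A : Matrix.SpecialLinearGroup ι (ZMod p)) (x : V) :
    slHom b A x = b.equivFun.symm ((A : Matrix ι ι (ZMod p)) *ᵥ b.equivFun x) := by
  simp [slHom, Matrix.SpecialLinearGroup.toLin'_apply]

theorem slHom_transvection {ι : Type*} [Fintype ι] [DecidableEq ι] (b : Basis ι (ZMod p) V)
    {i j : ι} (hij : i ≠ j) (c : ZMod p) (h : (c • b.coord j) (b i) = 0) :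
    slHom b (Matrix.SpecialLinearGroup.transvection hij c) = LinearEquiv.transvection h := by
  refine LinearEquiv.ext fun x => b.equivFun.injective ?_
  rw [slHom_apply, LinearEquiv.apply_symm_apply, LinearEquiv.transvection.apply, map_add, map_smul,
    Matrix.SpecialLinearGroup.transvection_coe]
  ext l
  simp [Matrix.add_mulVec, Matrix.single_mulVec, Function.update_apply, Pi.single_apply,
    Finsupp.single_apply, eq_comm]

theorem mem_range_slHom {ι : Type*} [Fintype ι] [DecidableEq ι] (b : Basis ι (ZMod p) V)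
    (g : V ≃ₗ[ZMod p] V) (hg : LinearMap.det (g : V →ₗ[ZMod p] V) = 1) :
    g ∈ (slHom b).range := by
  let A : Matrix.SpecialLinearGroup ι (ZMod p) :=
    ⟨LinearMap.toMatrix b b (g : V →ₗ[ZMod p] V), by rw [LinearMap.det_toMatrix, hg]⟩
  refine ⟨A, LinearEquiv.ext fun x => b.equivFun.injective ?_⟩
  refine (congrArg b.equivFun (slHom_apply b A x)).trans ?_
  rw [LinearEquiv.apply_symm_apply]
  exact LinearMap.toMatrix_mulVec_repr b b (g : V →ₗ[ZMod p] V) x

theorem le_ker_det {H : Subgroup (V ≃ₗ[ZMod p] V)} (S : Set (V ≃ₗ[ZMod p] V))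
    (hgen : H = Subgroup.closure S) (hS : ∀ g ∈ S, g ∈ LinearEquiv.transvections (ZMod p) V)
    {g : V ≃ₗ[ZMod p] V} (hg : g ∈ H) : LinearMap.det (g : V →ₗ[ZMod p] V) = 1 := by
  have hle : H ≤ (LinearEquiv.det : (V ≃ₗ[ZMod p] V) →* (ZMod p)ˣ).ker := by
    rw [hgen, Subgroup.closure_le]
    intro t ht
    obtain ⟨f, v, h, rfl⟩ := hS t ht
    exact LinearEquiv.transvection.det_eq_one h
  rw [← LinearEquiv.coe_det, MonoidHom.mem_ker.1 (hle hg), Units.val_one]

theorem irreducible_cases [FiniteDimensional (ZMod p) V] (hp2 : p ≠ 2)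
    (H : Subgroup (V ≃ₗ[ZMod p] V)) (S : Set (V ≃ₗ[ZMod p] V)) (hgen : H = Subgroup.closure S)
    (hS : ∀ g ∈ S, g ∈ LinearEquiv.transvections (ZMod p) V)
    (hne : ∃ a α, Tv H a α) (hI : Irred (Tv H)) :
    (∀ g, g ∈ H ↔ LinearMap.det (g : V →ₗ[ZMod p] V) = 1) ∨
      ∃ B : V →ₗ[ZMod p] V →ₗ[ZMod p] ZMod p,
        Symplectic.IsSympForm B ∧ H = Symplectic.Isom B := by
  have h2 : (2 : ZMod p) ≠ 0 := by
    intro h
    have hdvd : p ∣ 2 := (ZMod.natCast_eq_zero_iff 2 p).1 (by exact_mod_cast h)
    exact hp2 ((Nat.prime_dvd_prime_iff_eq Fact.out Nat.prime_two).1 hdvd)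
  have hP := isSys_Tv H
  by_cases hbig : ∃ a₀, 2 ≤ finrank (ZMod p) (hP.axes a₀)
  · obtain ⟨a₀, h0⟩ := hbig
    refine Or.inl fun g => ⟨le_ker_det S hgen hS, fun hg => ?_⟩
    classical
    let b := Module.finBasis (ZMod p) V
    obtain ⟨A, rfl⟩ := mem_range_slHom b g hg
    have htop : Subgroup.comap (slHom b) H = ⊤ := by
      refine Linear.sl_eq_top_of_transvection_mem _ fun i j hij c => ?_
      have h : (c • b.coord j) (b i) = 0 := by simp [hij]
      rw [Subgroup.mem_comap, slHom_transvection b hij c h]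
      by_cases hc : c = 0
      · have : LinearEquiv.transvection h = 1 := by
          refine LinearEquiv.ext fun x => ?_
          simp [LinearMap.transvection.apply, hc]
        rw [this]; exact H.one_mem
      obtain ⟨-, -, _, hmem⟩ := hP.all_pairs hI h2 hne h0 (b.ne_zero i)
        (φ := c • b.coord j) (smul_ne_zero hc fun h' => one_ne_zero (α := ZMod p) (by
          simpa using LinearMap.congr_fun h' (b j))) h
      exact hmem
    exact Subgroup.mem_comap.1 (htop ▸ Subgroup.mem_top A)
  · push Not at hbig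
    have hline : ∀ a α β, Tv H a α → Tv H a β → ∃ c : ZMod p, β = c • α := by
      intro a α β hα hβ
      have hspan : Submodule.span (ZMod p) {α} = hP.axes a := by
        refine Submodule.eq_of_le_of_finrank_le ?_ ?_
        · rw [Submodule.span_singleton_le_iff_mem]; exact hP.mem_axes_of hα
        · rw [finrank_span_singleton (hP.ne_right hα)]
          exact Nat.lt_succ_iff.1 (hbig a)
      obtain ⟨c, hc⟩ := Submodule.mem_span_singleton.1 (hspan ▸ hP.mem_axes_of hβ)
      exact ⟨c, hc.symm⟩
    obtain ⟨B, hB, hP'⟩ := hP.symp hI h2 hne hline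
    refine Or.inr ⟨B, hB, le_antisymm ?_ ?_⟩
    · rw [hgen, Subgroup.closure_le]
      intro t ht x y
      obtain ⟨f, v, h, rfl⟩ := hS t ht
      simp only [LinearEquiv.transvection.apply]
      by_cases hv : v = 0
      · simp [hv]
      by_cases hf : f = 0
      · simp [hf]
      have hmem : LinearEquiv.transvection h ∈ H := hgen ▸ Subgroup.subset_closure ht
      obtain ⟨-, c, -, rfl⟩ := (hP' v f).1 ⟨hv, hf, h, hmem⟩
      simp only [map_add, map_smul, LinearMap.add_apply, LinearMap.smul_apply, smul_eq_mul,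
        hB.self, mul_zero, add_zero, hB.swap v x]
      ring
    · intro g hg
      have hle : Symplectic.TG hB ≤ H.comap (Symplectic.Isom B).subtype := by
        rw [Symplectic.TG, Subgroup.closure_le]
        rintro _ ⟨⟨a, c⟩, rfl⟩
        simp only [SetLike.mem_coe, Subgroup.mem_comap, Subgroup.coe_subtype]
        by_cases hac : a = 0 ∨ c = 0
        · have : Symplectic.transv hB a c = 1 := by rcases hac with rfl | rfl <;> simp
          rw [this]; exact H.one_mem
        push Not at hac
        obtain ⟨-, -, h, hmem⟩ := (hP' a ((-c) • B a)).2 ⟨hac.1, -c, neg_ne_zero.2 hac.2, rfl⟩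
        have e : (Symplectic.transv hB a c : V ≃ₗ[ZMod p] V) = LinearEquiv.transvection h := by
          refine LinearEquiv.ext fun x => ?_
          rw [← Symplectic.isom_smul_def, Symplectic.transv_smul, LinearEquiv.transvection.apply,
            LinearMap.smul_apply, hB.swap x a, smul_eq_mul, mul_neg, neg_mul]
        rw [e]; exact hmem
      rw [Symplectic.TG_eq_top hB] at hle
      exact hle (Subgroup.mem_top (⟨g, hg⟩ : Symplectic.Isom B))

end Cfsg.Agent.Lib.TransvGroups
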