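import Mathlib
import Cfsg.Agent.Lib.TransvGroups.Irred
import Cfsg.Prelude.Def_Solvable

/-!
# Blocks of a group generated by transvections without a normal `p`-subgroup

The invariant subspace generated by a centre is a block.  A block meets no other block in a
centre, the transvections with centre in the block generate a group acting faithfully and
irreducibly on the block modulo the common zeros of their axes.
-/

set_option autoImplicit false

namespace Cfsg.Agent.Lib.TransvGroups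

open Module

variable {p : ℕ} [Fact p.Prime] {V : Type*} [AddCommGroup V] [Module (ZMod p) V]

/-- The transvections in `H` with centre in `U`. -/
def tvSet (H : Subgroup (V ≃ₗ[ZMod p] V)) (U : Submodule (ZMod p) V) : Set (V ≃ₗ[ZMod p] V) :=
  {t | ∃ (a : V) (α : Dual (ZMod p) V) (h : α a = 0),
    Tv H a α ∧ a ∈ U ∧ t = LinearEquiv.transvection h}

/-- The group generated by the transvections with centre in `U`. -/
def sub (H : Subgroup (V ≃ₗ[ZMod p] V)) (U : Submodule (ZMod p) V) : Subgroup (V ≃ₗ[ZMod p] V) :=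
  Subgroup.closure (tvSet H U)

/-- The invariant subspace generated by a vector. -/
def orb (H : Subgroup (V ≃ₗ[ZMod p] V)) (a : V) : Submodule (ZMod p) V :=
  Submodule.span (ZMod p) {v | ∃ h ∈ H, h a = v}

/-- The common zeros of the axes with centre in `U`. -/
def axKer (H : Subgroup (V ≃ₗ[ZMod p] V)) (U : Submodule (ZMod p) V) : Submodule (ZMod p) V where
  carrier := {x | ∀ a α, Tv H a α → a ∈ U → α x = 0}
  zero_mem' := fun a α _ _ => map_zero α
  add_mem' := fun hx hy a α h h' => by rw [map_add, hx a α h h', hy a α h h', add_zero]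
  smul_mem' := fun c x hx a α h h' => by rw [map_smul, hx a α h h', smul_zero]

/-- The standing hypotheses. -/
structure Gen (H : Subgroup (V ≃ₗ[ZMod p] V)) : Prop where
  hp2 : p ≠ 2
  core : Cfsg.pCore p H = ⊥
  gen : sub H ⊤ = H

variable {H : Subgroup (V ≃ₗ[ZMod p] V)}

theorem inv_cancel (h : (V ≃ₗ[ZMod p] V)) (x : V) : h⁻¹ (h x) = x := by
  rw [← LinearEquiv.mul_apply, inv_mul_cancel, LinearEquiv.coe_one, id_eq]

theorem cancel_inv (h : (V ≃ₗ[ZMod p] V)) (x : V) : h (h⁻¹ x) = x := by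
  rw [← LinearEquiv.mul_apply, mul_inv_cancel, LinearEquiv.coe_one, id_eq]

theorem tvSet_subset (U : Submodule (ZMod p) V) : tvSet H U ⊆ H := by
  rintro _ ⟨a, α, h, ⟨-, -, _, hmem⟩, -, rfl⟩
  exact hmem

theorem sub_le (U : Submodule (ZMod p) V) : sub H U ≤ H :=
  (Subgroup.closure_le H).2 (tvSet_subset U)

theorem transvection_mem_sub {U : Submodule (ZMod p) V} {a : V} {α : Dual (ZMod p) V}
    (h : Tv H a α) (ha : a ∈ U) : LinearEquiv.transvection h.2.2.1 ∈ sub H U :=
  Subgroup.subset_closure ⟨a, α, h.2.2.1, h, ha, rfl⟩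

/-- Elements generated by transvections with centre in `U` move vectors within `U`. -/
theorem sub_sub_mem {U : Submodule (ZMod p) V} {h : (V ≃ₗ[ZMod p] V)} (hh : h ∈ sub H U) :
    ∀ x, h x - x ∈ U := by
  induction hh using Subgroup.closure_induction with
  | mem t ht =>
    obtain ⟨a, α, h0, -, ha, rfl⟩ := ht
    intro x
    rw [LinearEquiv.transvection.apply, add_sub_cancel_left]
    exact U.smul_mem _ ha
  | one => intro x; simp
  | mul g g' _ _ hg hg' =>
    intro x
    rw [LinearEquiv.mul_apply]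
    have := U.add_mem (hg (g' x)) (hg' x)
    rwa [sub_add_sub_cancel] at this
  | inv g _ hg =>
    intro x
    have := U.neg_mem (hg (g⁻¹ x))
    rwa [cancel_inv, neg_sub] at this

theorem sub_mem_of_mem {U : Submodule (ZMod p) V} {h : (V ≃ₗ[ZMod p] V)} (hh : h ∈ sub H U) {u : V}
    (hu : u ∈ U) : h u ∈ U := by
  have := U.add_mem (sub_sub_mem hh u) hu
  rwa [sub_add_cancel] at this

theorem sub_fix {U : Submodule (ZMod p) V} {h : (V ≃ₗ[ZMod p] V)} (hh : h ∈ sub H U) {x : V}
    (hx : x ∈ axKer H U) : h x = x := by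
  have hle : sub H U ≤ MulAction.stabilizer (V ≃ₗ[ZMod p] V) x := by
    rw [sub, Subgroup.closure_le]
    rintro _ ⟨a, α, h0, hT, ha, rfl⟩
    rw [SetLike.mem_coe, MulAction.mem_stabilizer_iff, LinearEquiv.smul_def,
      LinearEquiv.transvection.apply, hx a α hT ha, zero_smul, add_zero]
  exact hle hh

namespace Gen

variable (hG : Gen H) [Finite V]
include hG

/-- An element of `H` acting trivially on a short flag of invariant subspaces is trivial. -/
theorem flag_eq_one {U R : Submodule (ZMod p) V} (hU : ∀ h ∈ H, ∀ u ∈ U, h u ∈ U)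
    (hR : ∀ h ∈ H, ∀ r ∈ R, h r ∈ R) {h : (V ≃ₗ[ZMod p] V)} (hh : h ∈ H) (h1 : ∀ x, h x - x ∈ U)
    (h2 : ∀ u ∈ U, h u - u ∈ R) (h3 : ∀ r ∈ R, h r = r) : h = 1 := by
  let N : Subgroup H :=
    { carrier := {g | (∀ x, (g : (V ≃ₗ[ZMod p] V)) x - x ∈ U) ∧ (∀ u ∈ U, (g : (V ≃ₗ[ZMod p] V)) u - u ∈ R) ∧
        ∀ r ∈ R, (g : (V ≃ₗ[ZMod p] V)) r = r}
      one_mem' := by simp
      mul_mem' := by
        rintro ⟨f, hf⟩ ⟨g, hg⟩ ⟨f1, f2, f3⟩ ⟨g1, g2, g3⟩
        refine ⟨fun x => ?_, fun u hu => ?_, fun r hr => ?_⟩ <;>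
          simp only [Subgroup.coe_mul, LinearEquiv.mul_apply]
        · have := U.add_mem (f1 (g x)) (g1 x)
          rwa [sub_add_sub_cancel] at this
        · have := R.add_mem (f2 (g u) (hU g hg u hu)) (g2 u hu)
          rwa [sub_add_sub_cancel] at this
        · rw [g3 r hr, f3 r hr]
      inv_mem' := by
        rintro ⟨f, hf⟩ ⟨f1, f2, f3⟩
        refine ⟨fun x => ?_, fun u hu => ?_, fun r hr => ?_⟩ <;>
          simp only [InvMemClass.coe_inv]
        · have := U.neg_mem (f1 (f⁻¹ x))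
          rwa [cancel_inv, neg_sub] at this
        · have := R.neg_mem (f2 (f⁻¹ u) (hU f⁻¹ (H.inv_mem hf) u hu))
          rwa [cancel_inv, neg_sub] at this
        · conv_lhs => rw [← f3 r hr]
          rw [inv_cancel] }
  have hN : N.Normal := by
    refine ⟨fun f ⟨f1, f2, f3⟩ g => ⟨fun x => ?_, fun u hu => ?_, fun r hr => ?_⟩⟩ <;>
      simp only [Subgroup.coe_mul, InvMemClass.coe_inv, LinearEquiv.mul_apply]
    · have := hU g g.2 _ (f1 ((g : (V ≃ₗ[ZMod p] V))⁻¹ x))
      rwa [map_sub, cancel_inv] at this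
    · have := hR g g.2 _ (f2 _ (hU _ (H.inv_mem g.2) u hu))
      rwa [map_sub, cancel_inv] at this
    · rw [f3 _ (hR _ (H.inv_mem g.2) r hr), cancel_inv]
  have hNp : IsPGroup p N := by
    rintro ⟨⟨f, hf⟩, f1, f2, f3⟩
    refine ⟨1, Subtype.ext (Subtype.ext (LinearEquiv.ext fun x => ?_))⟩
    simp only [pow_one, SubgroupClass.coe_pow, OneMemClass.coe_one, LinearEquiv.coe_one, id_eq]
    set m := f x - x with hm
    set m' := f m - m with hm'
    have hfm : f m = m + m' := by rw [hm']; abel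
    have hfm' : f m' = m' := f3 _ (f2 m (f1 x))
    have key : ∀ n : ℕ,
        (f ^ n : (V ≃ₗ[ZMod p] V)) x = x + (n : ZMod p) • m + ((n.choose 2 : ℕ) : ZMod p) • m' := by
      intro n
      induction n with
      | zero => simp
      | succ n ih =>
        rw [pow_succ', LinearEquiv.mul_apply, ih, map_add, map_add, map_smul, map_smul, hfm, hfm',
          show f x = x + m by rw [hm]; abel, Nat.choose_succ_succ, Nat.choose_one_right]
        push_cast
        module
    have hch : ((p.choose 2 : ℕ) : ZMod p) = 0 := by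
      rw [ZMod.natCast_eq_zero_iff]
      refine Nat.Prime.dvd_choose_self Fact.out two_ne_zero ?_
      have := (Fact.out : p.Prime).two_le
      have := hG.hp2
      omega
    rw [key p, ZMod.natCast_self, hch, zero_smul, zero_smul, add_zero, add_zero]
  have hle : N ≤ Cfsg.pCore p H := le_sSup ⟨hN, hNp⟩
  rw [hG.core] at hle
  exact congrArg Subtype.val (Subgroup.mem_bot.1 (hle (x := ⟨h, hh⟩) ⟨h1, h2, h3⟩))

theorem map_eq_of_forall_mem {Y : Submodule (ZMod p) V} {g : (V ≃ₗ[ZMod p] V)} (h : ∀ y ∈ Y, g y ∈ Y)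
    {y : V} (hy : y ∈ Y) : g⁻¹ y ∈ Y := by
  have hle : Y.map (g : V →ₗ[ZMod p] V) ≤ Y := by
    rintro _ ⟨z, hz, rfl⟩; exact h z hz
  have heq : Y.map (g : V →ₗ[ZMod p] V) = Y :=
    Submodule.eq_of_le_of_finrank_le hle (le_of_eq (LinearEquiv.finrank_map_eq g Y).symm)
  obtain ⟨z, hz, hzy⟩ := heq.symm ▸ hy
  rw [← hzy]
  show g⁻¹ (g z) ∈ Y
  rwa [inv_cancel]

/-- A subspace preserved by the transvections in `H` is invariant. -/
theorem inv_of_tv {Y : Submodule (ZMod p) V}
    (h : ∀ a α, Tv H a α → ∀ y ∈ Y, α y • a ∈ Y) : ∀ g ∈ H, ∀ y ∈ Y, g y ∈ Y := by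
  intro g hg
  rw [← hG.gen] at hg
  induction hg using Subgroup.closure_induction with
  | mem t ht =>
    obtain ⟨a, α, h0, hT, -, rfl⟩ := ht
    intro y hy
    rw [LinearEquiv.transvection.apply]
    exact Y.add_mem hy (h a α hT y hy)
  | one => intro y hy; simpa using hy
  | mul f f' _ _ hf hf' => intro y hy; exact hf _ (hf' y hy)
  | inv f _ hf => intro y hy; exact hG.map_eq_of_forall_mem hf hy

omit hG in
theorem tv_mem_or_kill {Y : Submodule (ZMod p) V} (hY : ∀ g ∈ H, ∀ y ∈ Y, g y ∈ Y) {a : V}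
    {α : Dual (ZMod p) V} (h : Tv H a α) (ha : a ∉ Y) {y : V} (hy : y ∈ Y) : α y = 0 := by
  by_contra hne
  obtain ⟨-, -, h0, hmem⟩ := h
  have h1 := Y.sub_mem (hY _ hmem y hy) hy
  rw [LinearEquiv.transvection.apply, add_sub_cancel_left] at h1
  exact ha ((Submodule.smul_mem_iff _ hne).1 h1)

/-- The axis of a transvection with centre in an invariant subspace does not vanish on it. -/
theorem exists_apply_ne_zero {Y : Submodule (ZMod p) V} (hY : ∀ g ∈ H, ∀ y ∈ Y, g y ∈ Y) {a : V}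
    {α : Dual (ZMod p) V} (h : Tv H a α) (ha : a ∈ Y) : ∃ y ∈ Y, α y ≠ 0 := by
  by_contra hno
  push Not at hno
  obtain ⟨ha0, hα, h0, hmem⟩ := h
  have h1 : LinearEquiv.transvection h0 = 1 := by
    refine hG.flag_eq_one (R := ⊥) hY (fun g _ r hr => ?_) hmem (fun x => ?_) (fun u hu => ?_)
      fun r hr => ?_
    · rw [Submodule.mem_bot] at hr ⊢; rw [hr, map_zero]
    · rw [LinearEquiv.transvection.apply, add_sub_cancel_left]; exact Y.smul_mem _ ha
    · rw [LinearEquiv.transvection.apply, hno u hu, zero_smul, add_zero, sub_self]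
      exact zero_mem _
    · rw [Submodule.mem_bot] at hr; rw [hr, map_zero]
  refine hα (LinearMap.ext fun x => ?_)
  have h2 := LinearEquiv.congr_fun h1 x
  rw [LinearEquiv.transvection.apply, LinearEquiv.coe_one, id_eq, add_eq_left, smul_eq_zero] at h2
  exact h2.resolve_right ha0

omit hG in
theorem orb_inv (a : V) : ∀ g ∈ H, ∀ y ∈ orb H a, g y ∈ orb H a := by
  intro g hg y hy
  have hle : (orb H a).map (g : V →ₗ[ZMod p] V) ≤ orb H a := by
    rw [orb, Submodule.map_span_le]
    rintro _ ⟨h, hh, rfl⟩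
    exact Submodule.subset_span ⟨g * h, H.mul_mem hg hh, rfl⟩
  exact hle ⟨y, hy, rfl⟩

omit hG in
theorem mem_orb (a : V) : a ∈ orb H a := Submodule.subset_span ⟨1, H.one_mem, rfl⟩

omit hG in
theorem orb_le {a : V} {Y : Submodule (ZMod p) V} (hY : ∀ g ∈ H, ∀ y ∈ Y, g y ∈ Y) (ha : a ∈ Y) :
    orb H a ≤ Y :=
  Submodule.span_le.2 fun _ ⟨h, hh, he⟩ => he ▸ hY h hh a ha

/-- Two blocks sharing a centre are equal. -/
theorem orb_eq {a b : V} {α β : Dual (ZMod p) V} (hA : Tv H a α) (hB : Tv H b β)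
    (hb : b ∈ orb H a) : orb H b = orb H a := by
  refine le_antisymm (orb_le (orb_inv a) hb) (orb_le (orb_inv b) ?_)
  by_contra haY
  obtain ⟨y, hy, hβy⟩ := hG.exists_apply_ne_zero (orb_inv a) hB hb
  obtain ⟨g, hg, hβg⟩ : ∃ g ∈ H, β (g a) ≠ 0 := by
    by_contra hno
    push Not at hno
    refine hβy ?_
    have hle : orb H a ≤ LinearMap.ker β :=
      Submodule.span_le.2 fun _ ⟨h, hh, he⟩ => he ▸ hno h hh
    exact hle hy
  set a' := g a with ha'
  set α' := α ∘ₗ (g⁻¹ : (V ≃ₗ[ZMod p] V)).toLinearMap with hα'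
  have hA' : Tv H a' α' := hA.conj_mem hg
  have ha'Y : a' ∉ orb H b := fun h => haY (by
    have := orb_inv b g⁻¹ (H.inv_mem hg) _ h
    rwa [ha', inv_cancel] at this)
  have hαb : α' b = 0 := tv_mem_or_kill (orb_inv b) hA' ha'Y (mem_orb b)
  have hP := isSys_Tv H
  have h1 := hP.conj hA' hB
  rw [hαb, zero_smul, sub_zero] at h1
  have h2 := hP.add_left h1 (hP.smul_left (-1) (by simp) hA') (by
    rw [show a' + β a' • b + (-1 : ZMod p) • a' = β a' • b by module]
    exact smul_ne_zero hβg hB.1)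
  rw [show a' + β a' • b + (-1 : ZMod p) • a' = β a' • b by module] at h2
  obtain ⟨z, hz, hαz⟩ := hG.exists_apply_ne_zero (orb_inv b) h2 (Submodule.smul_mem _ _ (mem_orb b))
  exact hαz (tv_mem_or_kill (orb_inv b) hA' ha'Y hz)

/-- A block is a subspace generated as invariant subspace by a centre. -/
def IsBlock (U : Submodule (ZMod p) V) : Prop := ∃ a α, Tv H a α ∧ U = orb H a

omit hG in
theorem axKer_inv {U : Submodule (ZMod p) V} (hU : ∀ g ∈ H, ∀ y ∈ U, g y ∈ U) :
    ∀ g ∈ H, ∀ x ∈ axKer H U, g x ∈ axKer H U := by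
  intro g hg x hx a α h ha
  have h' := hx _ _ (h.conj_mem (H.inv_mem hg)) (hU _ (H.inv_mem hg) a ha)
  simpa [inv_inv] using h'

end Gen

end Cfsg.Agent.Lib.TransvGroups
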