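import Mathlib
import Cfsg.Agent.Lib.TransvGroups.Blocks

/-!
# The action of a block group on the block

The group generated by the transvections with centre in a block acts faithfully on the block
modulo the common zeros of their axes, as a special linear or a symplectic group.
-/

set_option autoImplicit false

namespace Cfsg.Agent.Lib.TransvGroups

open Module

variable {p : ℕ} [Fact p.Prime] {V : Type*} [AddCommGroup V] [Module (ZMod p) V]
variable {H : Subgroup (V ≃ₗ[ZMod p] V)}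

/-- Restrict a group to an invariant subspace. -/
def resHom (G : Subgroup (V ≃ₗ[ZMod p] V)) (U : Submodule (ZMod p) V)
    (hU : ∀ g ∈ G, ∀ u ∈ U, g u ∈ U) : G →* (U ≃ₗ[ZMod p] U) where
  toFun g := LinearEquiv.ofLinearMap
    ((g : V ≃ₗ[ZMod p] V).toLinearMap.restrict (p := U) (q := U) (hU g g.2))
    ((g⁻¹ : G).1.toLinearMap.restrict (p := U) (q := U) (hU _ (g⁻¹).2))
    (LinearMap.ext fun u => Subtype.ext (cancel_inv (g : V ≃ₗ[ZMod p] V) u))
    (LinearMap.ext fun u => Subtype.ext (inv_cancel (g : V ≃ₗ[ZMod p] V) u))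
  map_one' := LinearEquiv.ext fun _ => rfl
  map_mul' _ _ := LinearEquiv.ext fun _ => rfl

theorem resHom_apply {G : Subgroup (V ≃ₗ[ZMod p] V)} {U : Submodule (ZMod p) V}
    {hU : ∀ g ∈ G, ∀ u ∈ U, g u ∈ U} (g : G) (u : U) :
    (resHom G U hU g u : V) = (g : V ≃ₗ[ZMod p] V) u := rfl

/-- The action on the quotient of an invariant subspace. -/
noncomputable def quotHom {G : Type*} [Group G] {M : Type*} [AddCommGroup M] [Module (ZMod p) M]
    (ρ : G →* (M ≃ₗ[ZMod p] M)) (R : Submodule (ZMod p) M)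
    (hR : ∀ g, ∀ r ∈ R, ρ g r ∈ R) : G →* ((M ⧸ R) ≃ₗ[ZMod p] (M ⧸ R)) where
  toFun g := LinearEquiv.ofLinearMap (Submodule.mapQ R R (ρ g).toLinearMap fun r hr => hR g r hr)
    (Submodule.mapQ R R (ρ g⁻¹).toLinearMap fun r hr => hR g⁻¹ r hr)
    (by
      refine Submodule.linearMap_qext R (LinearMap.ext fun u => ?_)
      simp only [LinearMap.comp_apply, Submodule.mkQ_apply, Submodule.mapQ_apply,
        LinearMap.id_apply, LinearEquiv.coe_coe, ← LinearEquiv.mul_apply, ← map_mul,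
        mul_inv_cancel, map_one, LinearEquiv.coe_one, id_eq])
    (by
      refine Submodule.linearMap_qext R (LinearMap.ext fun u => ?_)
      simp only [LinearMap.comp_apply, Submodule.mkQ_apply, Submodule.mapQ_apply,
        LinearMap.id_apply, LinearEquiv.coe_coe, ← LinearEquiv.mul_apply, ← map_mul,
        inv_mul_cancel, map_one, LinearEquiv.coe_one, id_eq])
  map_one' := by
    refine LinearEquiv.toLinearMap_injective
      (Submodule.linearMap_qext R (LinearMap.ext fun u => ?_))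
    simp [Submodule.mapQ_apply]
  map_mul' g g' := by
    refine LinearEquiv.toLinearMap_injective
      (Submodule.linearMap_qext R (LinearMap.ext fun u => ?_))
    simp [Submodule.mapQ_apply, LinearEquiv.mul_apply]

theorem quotHom_apply {G : Type*} [Group G] {M : Type*} [AddCommGroup M] [Module (ZMod p) M]
    {ρ : G →* (M ≃ₗ[ZMod p] M)} {R : Submodule (ZMod p) M} {hR : ∀ g, ∀ r ∈ R, ρ g r ∈ R}
    (g : G) (u : M) :
    quotHom ρ R hR g (Submodule.Quotient.mk u) = Submodule.Quotient.mk (ρ g u) := rfl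

namespace Gen

variable (hG : Gen H) [Finite V] {U : Submodule (ZMod p) V} (hU : IsBlock (H := H) U)
include hG hU

omit hG in
theorem block_inv : ∀ g ∈ H, ∀ u ∈ U, g u ∈ U := by
  obtain ⟨a, α, -, rfl⟩ := hU
  exact orb_inv a

theorem block_eq {a : V} {α : Dual (ZMod p) V} (h : Tv H a α) (ha : a ∈ U) : orb H a = U := by
  obtain ⟨a₀, α₀, h₀, rfl⟩ := hU
  exact hG.orb_eq h₀ h ha

omit hG in
theorem exists_centre : ∃ a α, Tv H a α ∧ a ∈ U := by
  obtain ⟨a, α, h, rfl⟩ := hU
  exact ⟨a, α, h, mem_orb a⟩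

/-- A subspace of a block preserved by its transvections is the block or killed by their axes. -/
theorem eq_or_le_axKer {Y : Submodule (ZMod p) V} (hYU : Y ≤ U)
    (hY : ∀ a α, Tv H a α → a ∈ U → ∀ y ∈ Y, α y • a ∈ Y) : Y = U ∨ Y ≤ axKer H U := by
  have hinv : ∀ g ∈ H, ∀ y ∈ Y, g y ∈ Y := hG.inv_of_tv fun a α h y hy => by
    by_cases ha : a ∈ U
    · exact hY a α h ha y hy
    · rw [tv_mem_or_kill (block_inv hU) h ha (hYU hy), zero_smul]; exact Y.zero_mem
  by_cases hc : ∃ a α, Tv H a α ∧ a ∈ Y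
  · obtain ⟨a, α, h, ha⟩ := hc
    refine Or.inl (le_antisymm hYU ?_)
    rw [← hG.block_eq hU h (hYU ha)]
    exact orb_le hinv ha
  · push Not at hc
    exact Or.inr fun y hy a α h _ => tv_mem_or_kill hinv h (hc a α h) hy

/-- A centre in a block is not a common zero of the axes of the block. -/
theorem centre_notMem_axKer {a : V} {α : Dual (ZMod p) V} (h : Tv H a α) (ha : a ∈ U) :
    a ∉ axKer H U := by
  intro hX
  obtain ⟨y, hy, hne⟩ := hG.exists_apply_ne_zero (block_inv hU) h ha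
  have hle : U ≤ axKer H U :=
    (hG.block_eq hU h ha).symm.le.trans (orb_le (axKer_inv (block_inv hU)) hX)
  exact hne (hle hy a α h ha)

section Model

variable {M : Type*} [AddCommGroup M] [Module (ZMod p) M] {q : U →ₗ[ZMod p] M}
  (hq : Function.Surjective q) (hker : ∀ u : U, q u = 0 ↔ (u : V) ∈ axKer H U)
  (ρ : sub H U →* (M ≃ₗ[ZMod p] M))
  (hρ : ∀ (h : sub H U) (u u' : U), (u' : V) = (h : V ≃ₗ[ZMod p] V) u → ρ h (q u) = q u')
include hq hker hρ

omit hG hρ hU in
theorem exists_bar {a : V} {α : Dual (ZMod p) V} (h : Tv H a α) (ha : a ∈ U) :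
    ∃ φ : Dual (ZMod p) M, ∀ u : U, φ (q u) = α u := by
  obtain ⟨s, hs⟩ := LinearMap.exists_rightInverse_of_surjective q (LinearMap.range_eq_top.2 hq)
  refine ⟨α ∘ₗ U.subtype ∘ₗ s, fun u => ?_⟩
  have h1 : q (s (q u) - u) = 0 := by
    rw [map_sub, ← LinearMap.comp_apply q s, hs, LinearMap.id_apply, sub_self]
  have h2 := (hker _).1 h1 a α h ha
  rw [Submodule.coe_sub, map_sub, sub_eq_zero] at h2
  simpa using h2

theorem rho_injective : Function.Injective ρ := by
  refine (injective_iff_map_eq_one ρ).2 fun h hh => Subtype.ext ?_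
  refine hG.flag_eq_one (U := U) (R := U ⊓ axKer H U) (block_inv hU)
    (fun g hg r hr => ⟨block_inv hU g hg r hr.1, axKer_inv (block_inv hU) g hg r hr.2⟩)
    (sub_le U h.2) (sub_sub_mem h.2) (fun u hu => ⟨sub_sub_mem h.2 u, ?_⟩)
    fun r hr => sub_fix h.2 hr.2
  have h1 := hρ h ⟨u, hu⟩ ⟨_, sub_mem_of_mem h.2 hu⟩ rfl
  rw [hh, LinearEquiv.coe_one, id_eq, eq_comm, ← sub_eq_zero, ← map_sub, hker] at h1
  exact h1

omit hG hU hker in
theorem rho_transvection {a : V} {α : Dual (ZMod p) V} {h0 : α a = 0} (h : Tv H a α) (ha : a ∈ U)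
    {φ : Dual (ZMod p) M} (hφ : ∀ u : U, φ (q u) = α u) (hφa : φ (q ⟨a, ha⟩) = 0) :
    ρ ⟨LinearEquiv.transvection h0, transvection_mem_sub h ha⟩ =
      LinearEquiv.transvection hφa := by
  refine LinearEquiv.ext fun m => ?_
  obtain ⟨u, rfl⟩ := hq m
  rw [hρ _ u ⟨_, sub_mem_of_mem (transvection_mem_sub h ha) u.2⟩ rfl]
  refine Eq.trans ?_ (LinearEquiv.transvection.apply hφa (q u)).symm
  rw [hφ, ← map_smul, ← map_add]
  exact congrArg q (Subtype.ext (LinearEquiv.transvection.apply h0 (u : V)))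

/-- The images of the transvection pairs of the block are pairs of the image group. -/
theorem tv_range {a : V} {α : Dual (ZMod p) V} (h : Tv H a α) (ha : a ∈ U)
    {φ : Dual (ZMod p) M} (hφ : ∀ u : U, φ (q u) = α u) :
    Tv ρ.range (q ⟨a, ha⟩) φ := by
  have hφa : φ (q ⟨a, ha⟩) = 0 := (hφ _).trans h.2.2.1
  refine ⟨fun h0 => hG.centre_notMem_axKer hU h ha ((hker _).1 h0), fun h0 => ?_, hφa,
    _, rho_transvection (h0 := h.2.2.1) hq ρ hρ h ha hφ hφa⟩
  obtain ⟨y, hy, hne⟩ := hG.exists_apply_ne_zero (block_inv hU) h ha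
  exact hne (by rw [← hφ ⟨y, hy⟩, h0, LinearMap.zero_apply])

theorem range_cases :
    (∀ g, g ∈ ρ.range ↔ LinearMap.det (g : M →ₗ[ZMod p] M) = 1) ∨
      ∃ B : M →ₗ[ZMod p] M →ₗ[ZMod p] ZMod p,
        Symplectic.IsSympForm B ∧ ρ.range = Symplectic.Isom B := by
  have : Finite M := Finite.of_surjective q hq
  have : Module.Finite (ZMod p) M := Module.Finite.of_finite
  refine irreducible_cases hG.hp2 ρ.range
    (ρ '' (((↑) : sub H U → (V ≃ₗ[ZMod p] V)) ⁻¹' tvSet H U)) ?_ ?_ ?_ ?_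
  · rw [← MonoidHom.map_closure, MonoidHom.range_eq_map]
    congr 1
    exact (Subgroup.closure_closure_coe_preimage (k := tvSet H U)).symm
  · rintro _ ⟨⟨t, ht⟩, ⟨a, α, h0, h, ha, hte : t = _⟩, rfl⟩
    subst hte
    obtain ⟨φ, hφ⟩ := exists_bar hq hker h ha
    exact ⟨φ, q ⟨a, ha⟩, (hφ _).trans h0,
      rho_transvection hq ρ hρ h ha hφ ((hφ _).trans h0)⟩
  · obtain ⟨a, α, h, ha⟩ := exists_centre hU
    obtain ⟨φ, hφ⟩ := exists_bar hq hker h ha
    exact ⟨_, _, hG.tv_range hU hq hker ρ hρ h ha hφ⟩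
  · intro Y hYne hY
    rcases hG.eq_or_le_axKer hU (Y := (Y.comap q).map U.subtype) (Submodule.map_subtype_le _ _)
      (fun a α h ha y hy => by
        obtain ⟨u, hu, rfl⟩ := hy
        obtain ⟨φ, hφ⟩ := exists_bar hq hker h ha
        refine ⟨α u • ⟨a, ha⟩, ?_, rfl⟩
        rw [SetLike.mem_coe, Submodule.mem_comap, map_smul, ← hφ]
        exact hY _ _ (hG.tv_range hU hq hker ρ hρ h ha hφ) _ hu) with h | h
    · refine eq_top_iff.2 fun m _ => ?_
      obtain ⟨u, rfl⟩ := hq m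
      have hu : (u : V) ∈ (Y.comap q).map U.subtype := h.symm ▸ (u.2 : (u : V) ∈ U)
      obtain ⟨u', hu', hue⟩ := hu
      rw [Subtype.ext hue] at hu'
      exact hu'
    · refine absurd (eq_bot_iff.2 fun m hm => ?_) hYne
      obtain ⟨u, rfl⟩ := hq m
      rw [Submodule.mem_bot, hker]
      exact h ⟨u, hm, rfl⟩

end Model

end Gen

end Cfsg.Agent.Lib.TransvGroups
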