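import Mathlib
import Cfsg.Agent.Lib.TransvGroups.Action

/-!
# A block is complemented by the common zeros of its axes

An elementary abelian `2`-subgroup of the block group, averaged, gives the projection along the
block.
-/

set_option autoImplicit false

namespace Cfsg.Agent.Lib.TransvGroups

open Module

variable {p : ℕ} [Fact p.Prime] {V : Type*} [AddCommGroup V] [Module (ZMod p) V]
variable {H : Subgroup (V ≃ₗ[ZMod p] V)}

namespace Gen

variable (hG : Gen H) [Finite V] {U : Submodule (ZMod p) V} (hU : IsBlock (H := H) U)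
include hG hU

section Model

variable {M : Type*} [AddCommGroup M] [Module (ZMod p) M] {q : U →ₗ[ZMod p] M}
  (hker : ∀ u : U, q u = 0 ↔ (u : V) ∈ axKer H U)
  (ρ : sub H U →* (M ≃ₗ[ZMod p] M))
  (hρ : ∀ (h : sub H U) (u u' : U), (u' : V) = (h : V ≃ₗ[ZMod p] V) u → ρ h (q u) = q u')
include hker hρ

/-- Enough commuting involutions in the block group split off the block. -/
theorem split_of (E : Subgroup (sub H U)) (hE : ∀ e ∈ E, e * e = 1)
    (hgen : Subgroup.closure {t : sub H U | ∃ (a : V) (α : Dual (ZMod p) V) (h : Tv H a α)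
      (ha : a ∈ U), (t : V ≃ₗ[ZMod p] V) = LinearEquiv.transvection h.2.2.1 ∧
        ∃ e ∈ E, e * t = t * e ∧ ρ e (q ⟨a, ha⟩) = -q ⟨a, ha⟩} = ⊤) :
    U ⊓ axKer H U = ⊥ ∧ U ⊔ axKer H U = ⊤ := by
  have h2 : (2 : ZMod p) ≠ 0 := by
    intro h
    have hdvd : p ∣ 2 := (ZMod.natCast_eq_zero_iff 2 p).1 (by exact_mod_cast h)
    exact hG.hp2 ((Nat.prime_dvd_prime_iff_eq Fact.out Nat.prime_two).1 hdvd)
  have : Finite (V ≃ₗ[ZMod p] V) := Finite.of_injective _ DFunLike.coe_injective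
  have : Fintype E := Fintype.ofFinite E
  obtain ⟨k, hk⟩ : ∃ k, Nat.card E = 2 ^ k :=
    IsPGroup.iff_card.1 fun e : E => ⟨1, Subtype.ext (by
      rw [pow_one, SubgroupClass.coe_pow, OneMemClass.coe_one, pow_two, hE e e.2])⟩
  set N : ZMod p := (Fintype.card E : ZMod p) with hN
  have hN0 : N ≠ 0 := by
    rw [hN, ← Nat.card_eq_fintype_card, hk, Nat.cast_pow, Nat.cast_ofNat]
    exact pow_ne_zero _ h2
  let π : V →ₗ[ZMod p] V := N⁻¹ • ∑ e : E, ((e : sub H U) : V ≃ₗ[ZMod p] V).toLinearMap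
  have hπ : ∀ x, π x = N⁻¹ • ∑ e : E, ((e : sub H U) : V ≃ₗ[ZMod p] V) x := fun x => by
    simp [π]
  have hπe : ∀ (e : E) x, π (((e : sub H U) : V ≃ₗ[ZMod p] V) x) = π x := by
    intro e x
    rw [hπ, hπ]
    congr 1
    exact Fintype.sum_equiv (Equiv.mulRight e) _ _ fun d => rfl
  have heπ : ∀ (e : E) x, ((e : sub H U) : V ≃ₗ[ZMod p] V) (π x) = π x := by
    intro e x
    rw [hπ, map_smul, map_sum]
    congr 1
    exact Fintype.sum_equiv (Equiv.mulLeft e) _ _ fun d => rfl
  have hπU : ∀ x, x - π x ∈ U := by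
    intro x
    have h1 : x - π x = -(N⁻¹ • ∑ e : E, (((e : sub H U) : V ≃ₗ[ZMod p] V) x - x)) := by
      rw [hπ, Finset.sum_sub_distrib, Finset.sum_const, Finset.card_univ,
        ← Nat.cast_smul_eq_nsmul (ZMod p), ← hN, smul_sub, inv_smul_smul₀ hN0]
      abel
    rw [h1]
    exact U.neg_mem (U.smul_mem _ (U.sum_mem fun e _ => sub_sub_mem (e : sub H U).2 x))
  have hkey : ∀ h : sub H U, (∀ x, π ((h : V ≃ₗ[ZMod p] V) x) = π x) ∧
      ∀ x, (h : V ≃ₗ[ZMod p] V) (π x) = π x := by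
    intro h
    have hh := hgen ▸ Subgroup.mem_top h
    induction hh using Subgroup.closure_induction with
    | mem t ht =>
      obtain ⟨a, α, hT, ha, hte, e, he, hcomm, hflip⟩ := ht
      obtain ⟨x₀, hx₀⟩ : ∃ x₀, α x₀ = 1 := by
        obtain ⟨x, hx⟩ : ∃ x, α x ≠ 0 := by
          by_contra hc
          push Not at hc
          exact hT.2.1 (LinearMap.ext hc)
        exact ⟨(α x)⁻¹ • x, by rw [map_smul, smul_eq_mul, inv_mul_cancel₀ hx]⟩
      have hc : ∀ x, α x • ((e : V ≃ₗ[ZMod p] V) a) = α ((e : V ≃ₗ[ZMod p] V) x) • a := by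
        intro x
        have h1 := LinearEquiv.congr_fun (congrArg Subtype.val hcomm) x
        simp only [Subgroup.coe_mul, LinearEquiv.mul_apply, hte,
          LinearEquiv.transvection.apply, map_add, map_smul] at h1
        exact add_left_cancel h1
      have hea : (e : V ≃ₗ[ZMod p] V) a = α ((e : V ≃ₗ[ZMod p] V) x₀) • a := by
        rw [← hc, hx₀, one_smul]
      have hs : α ((e : V ≃ₗ[ZMod p] V) x₀) = -1 := by
        have h1 := hρ e ⟨a, ha⟩ (α ((e : V ≃ₗ[ZMod p] V) x₀) • ⟨a, ha⟩) hea.symm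
        rw [hflip, map_smul, eq_comm, ← sub_eq_zero, sub_neg_eq_add] at h1
        have h2' : (α ((e : V ≃ₗ[ZMod p] V) x₀) + 1) • q ⟨a, ha⟩ = 0 := by
          rw [add_smul, one_smul]; exact h1
        have hqa : q ⟨a, ha⟩ ≠ 0 := fun h0 => hG.centre_notMem_axKer hU hT ha ((hker _).1 h0)
        exact eq_neg_of_add_eq_zero_left ((smul_eq_zero.1 h2').resolve_right hqa)
      rw [hs, neg_one_smul] at hea
      have hαe : ∀ x, α ((e : V ≃ₗ[ZMod p] V) x) = -α x := by
        intro x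
        have h1 := hc x
        rw [hea, smul_neg, ← neg_smul] at h1
        exact (smul_left_injective (ZMod p) hT.1 h1).symm
      have hπa : π a = 0 := by
        have h1 := hπe ⟨e, he⟩ a
        rw [hea, map_neg, eq_comm, ← sub_eq_zero, sub_neg_eq_add, ← two_smul (ZMod p)] at h1
        exact (smul_eq_zero.1 h1).resolve_left h2
      refine ⟨fun x => ?_, fun x => ?_⟩
      · rw [hte, LinearEquiv.transvection.apply, map_add, map_smul, hπa, smul_zero, add_zero]
      · have h1 := hαe (π x)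
        rw [heπ ⟨e, he⟩ x, eq_comm, ← sub_eq_zero] at h1
        have h3 : (2 : ZMod p) * α (π x) = 0 := by linear_combination -h1
        rw [hte, LinearEquiv.transvection.apply, (mul_eq_zero.1 h3).resolve_left h2, zero_smul,
          add_zero]
    | one => exact ⟨fun x => rfl, fun x => rfl⟩
    | mul g g' _ _ hg hg' =>
      exact ⟨fun x => by rw [Subgroup.coe_mul, LinearEquiv.mul_apply, hg.1, hg'.1],
        fun x => by rw [Subgroup.coe_mul, LinearEquiv.mul_apply, hg'.2, hg.2]⟩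
    | inv g _ hg =>
      refine ⟨fun x => ?_, fun x => ?_⟩
      · rw [InvMemClass.coe_inv, ← hg.1, cancel_inv]
      · conv_lhs => rw [← hg.2 x]
        rw [InvMemClass.coe_inv, inv_cancel]
  have hπc : ∀ a α, Tv H a α → a ∈ U → π a = 0 ∧ ∀ x, α (π x) = 0 := by
    intro a α hT ha
    have h1 := hkey ⟨_, transvection_mem_sub hT ha⟩
    refine ⟨?_, fun x => ?_⟩
    · obtain ⟨y, hy⟩ : ∃ y, α y ≠ 0 := by
        by_contra hc
        push Not at hc
        exact hT.2.1 (LinearMap.ext hc)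
      have h3 := h1.1 y
      rw [LinearEquiv.transvection.apply, map_add, map_smul, add_eq_left, smul_eq_zero] at h3
      exact h3.resolve_left hy
    · have h3 := h1.2 x
      rw [LinearEquiv.transvection.apply, add_eq_left, smul_eq_zero] at h3
      exact h3.resolve_right hT.1
  have hπX : ∀ x, π x ∈ axKer H U := fun x a α hT ha => (hπc a α hT ha).2 x
  have hkerU : ∀ y, π y = 0 → y ∈ U := fun y hy => by simpa [hy] using hπU y
  have hUker : U ≤ LinearMap.ker π := by
    obtain ⟨a, α, hT, ha⟩ := exists_centre hU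
    refine (hG.block_eq hU hT ha).symm.le.trans (orb_le (hG.inv_of_tv fun b β hb y hy => ?_)
      (hπc a α hT ha).1)
    rw [LinearMap.mem_ker] at hy ⊢
    rw [map_smul]
    by_cases hbU : b ∈ U
    · rw [(hπc b β hb hbU).1, smul_zero]
    · rw [tv_mem_or_kill (block_inv hU) hb hbU (hkerU y hy), zero_smul]
  refine ⟨eq_bot_iff.2 fun x hx => ?_, eq_top_iff.2 fun x _ => ?_⟩
  · have h1 : π x = x := by
      have hfix : ∀ e : E, ((e : sub H U) : V ≃ₗ[ZMod p] V) x = x :=
        fun e => sub_fix (e : sub H U).2 hx.2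
      rw [hπ]
      simp only [hfix]
      rw [Finset.sum_const,
        Finset.card_univ, ← Nat.cast_smul_eq_nsmul (ZMod p), ← hN, inv_smul_smul₀ hN0]
    have h3 := hUker hx.1
    rw [LinearMap.mem_ker, h1] at h3
    exact (Submodule.mem_bot _).2 h3
  · exact Submodule.mem_sup.2 ⟨_, hπU x, _, hπX x, sub_add_cancel x (π x)⟩

end Model

/-- The subgroup of diagonal signs in the special linear group. -/
def signDiag (n : ℕ) : Subgroup (Matrix.SpecialLinearGroup (Fin n) (ZMod p)) where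
  carrier := {A | ∃ d : Fin n → ZMod p, (∀ i, d i * d i = 1) ∧
    (A : Matrix (Fin n) (Fin n) (ZMod p)) = Matrix.diagonal d}
  one_mem' := ⟨fun _ => 1, fun _ => one_mul 1, Matrix.diagonal_one.symm⟩
  mul_mem' := by
    rintro A B ⟨d, hd, hA⟩ ⟨e, he, hB⟩
    refine ⟨fun i => d i * e i, fun i => ?_, ?_⟩
    · rw [mul_mul_mul_comm, hd, he, one_mul]
    · rw [Matrix.SpecialLinearGroup.coe_mul, hA, hB, Matrix.diagonal_mul_diagonal]
  inv_mem' := by
    rintro A ⟨d, hd, hA⟩
    have h : A * A = 1 := by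
      refine Subtype.ext ?_
      rw [Matrix.SpecialLinearGroup.coe_mul, hA, Matrix.diagonal_mul_diagonal,
        Matrix.SpecialLinearGroup.coe_one, ← Matrix.diagonal_one]
      exact congrArg _ (funext hd)
    rw [inv_eq_of_mul_eq_one_right h]
    exact ⟨d, hd, hA⟩

omit hG hU in
theorem signDiag_sq {n : ℕ} {A : Matrix.SpecialLinearGroup (Fin n) (ZMod p)}
    (hA : A ∈ signDiag (p := p) n) : A * A = 1 := by
  obtain ⟨d, hd, hA⟩ := hA
  refine Subtype.ext ?_
  rw [Matrix.SpecialLinearGroup.coe_mul, hA, Matrix.diagonal_mul_diagonal,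
    Matrix.SpecialLinearGroup.coe_one, ← Matrix.diagonal_one]
  exact congrArg _ (funext hd)

/-- A block is complemented by the common zeros of its axes. -/
theorem block_split : U ⊓ axKer H U = ⊥ ∧ U ⊔ axKer H U = ⊤ := by
  classical
  have hR : ∀ (g : sub H U) (u : U), u ∈ (axKer H U).comap U.subtype →
      resHom (sub H U) U (fun _ hg _ => sub_mem_of_mem hg) g u ∈ (axKer H U).comap U.subtype :=
    fun g u hu => axKer_inv (block_inv hU) g (sub_le U g.2) u hu
  set R := (axKer H U).comap U.subtype with hRdef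
  set ρ := quotHom (resHom (sub H U) U fun _ hg _ => sub_mem_of_mem hg) R hR
  have hker : ∀ u : U, R.mkQ u = 0 ↔ (u : V) ∈ axKer H U := fun u => by
    rw [Submodule.mkQ_apply, Submodule.Quotient.mk_eq_zero, hRdef]
    exact Iff.rfl
  have hq : Function.Surjective R.mkQ := Submodule.mkQ_surjective R
  have hρ : ∀ (h : sub H U) (u u' : U), (u' : V) = (h : V ≃ₗ[ZMod p] V) u →
      ρ h (R.mkQ u) = R.mkQ u' := fun h u u' he => by
    rw [Submodule.mkQ_apply, Submodule.mkQ_apply, quotHom_apply]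
    exact congrArg _ (Subtype.ext he.symm)
  have hinj := hG.rho_injective hU hq hker ρ hρ
  set ν : (U ⧸ R) ≃ₗ[ZMod p] (U ⧸ R) := LinearEquiv.neg (ZMod p)
  by_cases hν : ν ∈ ρ.range
  · obtain ⟨e, he⟩ := hν
    refine hG.split_of hU hker ρ hρ (Subgroup.zpowers e) ?_ ?_
    · have h1 : e * e = 1 := hinj (by
        rw [map_mul, map_one, he]
        exact LinearEquiv.ext fun x => neg_neg x)
      rintro _ ⟨n, rfl⟩
      show e ^ n * e ^ n = 1
      rw [← (Commute.refl e).mul_zpow, h1, one_zpow]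
    · refine eq_top_iff.2 ?_
      refine le_of_eq_of_le (Subgroup.closure_closure_coe_preimage (k := tvSet H U)).symm
        (Subgroup.closure_mono ?_)
      rintro ⟨t, ht⟩ ⟨a, α, h0, h, ha, hte⟩
      refine ⟨a, α, h, ha, hte, e, Subgroup.mem_zpowers e, hinj ?_, ?_⟩
      · refine (map_mul ρ e _).trans (Eq.trans ?_ (map_mul ρ _ e).symm)
        rw [he]
        exact LinearEquiv.ext fun x => (map_neg _ x).symm
      · rw [he]; rfl
  rcases hG.range_cases hU hq hker ρ hρ with hdet | ⟨B, -, hB⟩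
  swap
  · exact absurd (hB ▸ fun x y => by simp [ν]) hν
  obtain ⟨a₀, α₀, hT₀, ha₀⟩ := exists_centre hU
  obtain ⟨φ₀, hφ₀⟩ := exists_bar hq hker hT₀ ha₀
  obtain ⟨hx₀, hφ₀0, hφx₀, -⟩ := hG.tv_range hU hq hker ρ hρ hT₀ ha₀ hφ₀
  have hd3 : 3 ≤ finrank (ZMod p) (U ⧸ R) := by
    have h2le : 2 ≤ finrank (ZMod p) (U ⧸ R) := by
      have hlt : LinearMap.ker φ₀ < ⊤ :=
        lt_top_iff_ne_top.2 fun h => hφ₀0 (LinearMap.ker_eq_top.1 h)
      have h1 := Submodule.finrank_lt hlt.ne
      have h3 : 1 ≤ finrank (ZMod p) (LinearMap.ker φ₀) :=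
        Submodule.one_le_finrank_iff.2 fun h =>
          hx₀ ((Submodule.mem_bot (ZMod p)).1 (h ▸ (LinearMap.mem_ker.2 hφx₀)))
      omega
    rcases h2le.lt_or_eq with h | h
    · exact h
    refine absurd ((hdet ν).2 ?_) hν
    have hν' : (ν : (U ⧸ R) →ₗ[ZMod p] (U ⧸ R)) = (-1 : ZMod p) • LinearMap.id :=
      LinearMap.ext fun x => by simp [ν]
    rw [hν', LinearMap.det_smul, LinearMap.det_id, mul_one, ← h, neg_one_sq]
  -- pairs of the quotient coming from pairs of the block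
  let L : (U ⧸ R) → Dual (ZMod p) (U ⧸ R) → Prop := fun x φ =>
    ∃ (a : V) (α : Dual (ZMod p) V) (_ : Tv H a α) (ha : a ∈ U),
      R.mkQ ⟨a, ha⟩ = x ∧ ∀ u : U, φ (R.mkQ u) = α u
  have hLne : ∀ {x φ}, L x φ → x ≠ 0 ∧ φ ≠ 0 ∧ φ x = 0 := by
    rintro x φ ⟨a, α, h, ha, rfl, hφ⟩
    obtain ⟨h1, h2, h3, -⟩ := hG.tv_range hU hq hker ρ hρ h ha hφ
    exact ⟨h1, h2, h3⟩
  have hLconj : ∀ {x φ} (g : sub H U), L x φ →
      L (ρ g x) (φ ∘ₗ ((ρ g)⁻¹).toLinearMap) := by
    rintro x φ g ⟨a, α, h, ha, rfl, hφ⟩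
    refine ⟨_, _, h.conj_mem (sub_le U g.2), sub_mem_of_mem g.2 ha, (hρ g _ _ rfl).symm, fun u => ?_⟩
    rw [LinearMap.comp_apply, ← map_inv, LinearEquiv.coe_coe,
      hρ g⁻¹ u ⟨_, sub_mem_of_mem (g⁻¹).2 u.2⟩ rfl, hφ]
    rfl
  have hLsmul : ∀ {x φ} (c : ZMod p), c ≠ 0 → L x φ → L (c • x) φ ∧ L x (c • φ) := by
    rintro x φ c hc ⟨a, α, h, ha, rfl, hφ⟩
    exact ⟨⟨_, _, (isSys_Tv H).smul_left c hc h, U.smul_mem c ha,
        map_smul R.mkQ c ⟨a, ha⟩, hφ⟩,
      ⟨_, _, (isSys_Tv H).smul_right c hc h, ha, rfl, fun u => by simp [← hφ]⟩⟩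
  have htrans : ∀ {c : U ⧸ R} {γ : Dual (ZMod p) (U ⧸ R)} (hc : γ c = 0),
      ∃ g : sub H U, ρ g = LinearEquiv.transvection hc := fun {c γ} hc =>
    (hdet _).2 (by
      rw [← LinearEquiv.coe_det, LinearEquiv.transvection.det_eq_one, Units.val_one])
  have hR1 : ∀ {x φ ψ}, L x φ → ψ ≠ 0 → ψ x = 0 → L x ψ := by
    intro x φ ψ hL hψ hψx
    obtain ⟨hx, hφ, hφx⟩ := hLne hL
    by_cases hc : ∃ c, (φ - ψ) c = 0 ∧ φ c ≠ 0
    · obtain ⟨c, hc, hφc⟩ := hc
      have hγc : ((φ c)⁻¹ • (φ - ψ)) c = 0 := by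
        rw [LinearMap.smul_apply, hc, smul_zero]
      obtain ⟨g, hg⟩ := htrans hγc
      have hL' := hLconj g hL
      have e1 : ρ g x = x := by
        rw [hg, LinearEquiv.transvection.apply]
        simp [hφx, hψx]
      have e2 : φ ∘ₗ ((ρ g)⁻¹).toLinearMap = ψ := by
        refine LinearMap.ext fun y => ?_
        rw [hg, LinearEquiv.transvection.inv_eq hγc (by rw [map_neg, hγc, neg_zero])]
        simp [LinearMap.transvection.apply]
        field_simp
        ring
      rwa [e1, e2] at hL'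
    · push Not at hc
      by_cases hd : φ - ψ = 0
      · rwa [← sub_eq_zero.1 hd]
      obtain ⟨s, hs⟩ : ∃ s : ZMod p, φ = s • (φ - ψ) := by
        obtain ⟨z, hz⟩ : ∃ z, (φ - ψ) z ≠ 0 := by
          by_contra hh
          push Not at hh
          exact hd (LinearMap.ext hh)
        refine ⟨φ z / (φ - ψ) z, LinearMap.ext fun w => ?_⟩
        have h1 := hc (w - ((φ - ψ) w / (φ - ψ) z) • z) (by
          rw [map_sub, map_smul, smul_eq_mul, div_mul_cancel₀ _ hz, sub_self])
        rw [map_sub, map_smul, smul_eq_mul, sub_eq_zero] at h1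
        rw [LinearMap.smul_apply, smul_eq_mul, h1]
        ring
      have hs0 : s ≠ 0 := fun h => hφ (by rw [hs, h, zero_smul])
      have hψe : ψ = ((s - 1) / s) • φ := by
        have h1 : s • ψ = (s - 1) • φ := by linear_combination (norm := module) hs
        rw [div_eq_inv_mul, mul_smul, ← h1, smul_smul, inv_mul_cancel₀ hs0, one_smul]
      have hs1 : (s - 1) / s ≠ 0 := fun h => hψ (by rw [hψe, h, zero_smul])
      rw [hψe]; exact (hLsmul _ hs1 hL).2
  have hR2 : ∀ {x y φ}, L x φ → y ≠ 0 → φ y = 0 → L y φ := by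
    intro x y φ hL hy hφy
    obtain ⟨hx, hφ, hφx⟩ := hLne hL
    by_cases hxy : x ∈ Submodule.span (ZMod p) {y - x}
    · obtain ⟨r, hr⟩ := Submodule.mem_span_singleton.1 hxy
      have hr0 : r ≠ 0 := fun h => hx (by rw [← hr, h, zero_smul])
      have hye : y = (r⁻¹ + 1) • x := by
        rw [add_smul, one_smul]
        conv_rhs => rw [← hr, smul_smul, inv_mul_cancel₀ hr0, one_smul]
        rw [hr]; abel
      have h0 : r⁻¹ + 1 ≠ 0 := fun h => hy (by rw [hye, h, zero_smul])
      rw [hye]; exact (hLsmul _ h0 hL).1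
    · obtain ⟨γ, hγx, hγ⟩ :=
        Submodule.exists_dual_map_eq_bot_of_notMem hxy inferInstance
      have hγyx : γ (y - x) = 0 := by
        have h1 : γ (y - x) ∈ (Submodule.span (ZMod p) {y - x}).map γ :=
          ⟨_, Submodule.mem_span_singleton_self _, rfl⟩
        rwa [hγ, Submodule.mem_bot] at h1
      have hγc : ((γ x)⁻¹ • γ) (y - x) = 0 := by
        rw [LinearMap.smul_apply, hγyx, smul_zero]
      obtain ⟨g, hg⟩ := htrans hγc
      have hL' := hLconj g hL
      have e1 : ρ g x = y := by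
        rw [hg, LinearEquiv.transvection.apply, LinearMap.smul_apply, smul_eq_mul,
          inv_mul_cancel₀ hγx, one_smul, add_sub_cancel]
      have e2 : φ ∘ₗ ((ρ g)⁻¹).toLinearMap = φ := by
        refine LinearMap.ext fun z => ?_
        rw [hg, LinearEquiv.transvection.inv_eq hγc (by rw [map_neg, hγc, neg_zero])]
        simp [LinearMap.transvection.apply, hφy, hφx]
      rwa [e1, e2] at hL'
  have hLall : ∀ {x ψ}, x ≠ 0 → ψ ≠ 0 → ψ x = 0 → L x ψ := by
    intro x ψ hx hψ hψx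
    have hS : Submodule.span (ZMod p) ((({R.mkQ ⟨a₀, ha₀⟩, x} : Finset (U ⧸ R)) : Finset (U ⧸ R)) : Set (U ⧸ R)) < ⊤ := by
      rw [lt_top_iff_ne_top]
      intro h
      have h1 := finrank_span_finset_le_card (R := ZMod p) ({R.mkQ ⟨a₀, ha₀⟩, x} : Finset (U ⧸ R))
      rw [Set.finrank, h, finrank_top] at h1
      have h4 : ({R.mkQ ⟨a₀, ha₀⟩, x} : Finset (U ⧸ R)).card ≤ 2 := Finset.card_le_two
      omega
    obtain ⟨χ, hχ0, hχ⟩ := Submodule.exists_dual_map_eq_bot_of_lt_top hS inferInstance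
    have hχS : ∀ z ∈ ({R.mkQ ⟨a₀, ha₀⟩, x} : Finset (U ⧸ R)), χ z = 0 := fun z hz => by
      have h1 : χ z ∈ (Submodule.span (ZMod p)
          ((({R.mkQ ⟨a₀, ha₀⟩, x} : Finset (U ⧸ R)) : Finset (U ⧸ R)) : Set (U ⧸ R))).map χ :=
        ⟨_, Submodule.subset_span hz, rfl⟩
      rwa [hχ, Submodule.mem_bot] at h1
    exact hR1 (hR2 (hR1 ⟨a₀, α₀, hT₀, ha₀, rfl, hφ₀⟩ hχ0 (hχS _ (by simp))) hx
      (hχS _ (by simp))) hψ hψx
  -- elementary transvections and signs
  let b := Module.finBasis (ZMod p) (U ⧸ R)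
  have hsl : ∀ A, slHom b A ∈ ρ.range := fun A => by
    rw [hdet]
    have h : Subgroup.comap (slHom b)
        (LinearEquiv.det : ((U ⧸ R) ≃ₗ[ZMod p] (U ⧸ R)) →* (ZMod p)ˣ).ker = ⊤ := by
      refine Linear.sl_eq_top_of_transvection_mem _ fun i j hij c => ?_
      rw [Subgroup.mem_comap, slHom_transvection b hij c (by simp [hij]), MonoidHom.mem_ker]
      exact LinearEquiv.transvection.det_eq_one _
    rw [← LinearEquiv.coe_det, MonoidHom.mem_ker.1 (Subgroup.mem_comap.1
      (h ▸ Subgroup.mem_top A)), Units.val_one]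
  refine hG.split_of hU hker ρ hρ ((Subgroup.map (slHom b) (signDiag _)).comap ρ) ?_ ?_
  · rintro e ⟨A, hA, hAe⟩
    refine hinj ?_
    rw [map_mul, map_one, ← hAe, ← map_mul, signDiag_sq hA, map_one]
  · set S : Set (sub H U) := {t | ∃ (a : V) (α : Dual (ZMod p) V) (h : Tv H a α)
      (ha : a ∈ U), (t : V ≃ₗ[ZMod p] V) = LinearEquiv.transvection h.2.2.1 ∧
        ∃ e ∈ (Subgroup.map (slHom b) (signDiag _)).comap ρ,
          e * t = t * e ∧ ρ e (R.mkQ ⟨a, ha⟩) = -R.mkQ ⟨a, ha⟩}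
    have hK : Subgroup.comap (slHom b) ((Subgroup.closure S).map ρ) = ⊤ := by
      refine Linear.sl_eq_top_of_transvection_mem _ fun i j hij c => ?_
      rcases eq_or_ne c 0 with rfl | hc
      · have h1 : Matrix.SpecialLinearGroup.transvection hij (0 : ZMod p) = 1 :=
          Subtype.ext (by simp [Matrix.SpecialLinearGroup.transvection_coe])
        rw [h1]; exact one_mem _
      have hcb : (c • b.coord j) (b i) = 0 := by simp [hij]
      obtain ⟨a, α, hT, ha, hqa, hψ⟩ : L (b i) (c • b.coord j) :=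
        hLall (b.ne_zero i) (smul_ne_zero hc fun h' => one_ne_zero (α := ZMod p) (by
          simpa using LinearMap.congr_fun h' (b j))) hcb
      set t : sub H U := ⟨_, transvection_mem_sub hT ha⟩
      have hρt : ρ t = slHom b (Matrix.SpecialLinearGroup.transvection hij c) := by
        rw [slHom_transvection b hij c hcb,
          rho_transvection hq ρ hρ hT ha hψ ((hψ _).trans hT.2.2.1)]
        exact transvection_congr _ _ rfl hqa
      set D := Matrix.SpecialLinearGroup.diag2n hij (-1 : ZMod p) (by simp)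
      obtain ⟨e, he⟩ := hsl D
      refine ⟨t, Subgroup.subset_closure ⟨a, α, hT, ha, rfl, e, ?_, hinj ?_, ?_⟩, hρt⟩
      · refine ⟨D, ⟨_, fun k => ?_, Matrix.SpecialLinearGroup.diag2n_coe hij _ _⟩, he.symm⟩
        by_cases h1 : k = i <;> by_cases h3 : k = j <;> simp [h1, h3, hij.symm, hij]
      · rw [map_mul, map_mul, he, hρt, ← map_mul, ← map_mul]
        refine congrArg _ (Subtype.ext ?_)
        rw [Matrix.SpecialLinearGroup.coe_mul, Matrix.SpecialLinearGroup.coe_mul,
          Matrix.SpecialLinearGroup.transvection_coe, Matrix.SpecialLinearGroup.diag2n_coe]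
        ext r s
        rw [Matrix.diagonal_mul, Matrix.mul_diagonal]
        by_cases h1 : r = i ∧ s = j
        · obtain ⟨rfl, rfl⟩ := h1
          simp [Matrix.single_apply, hij, hij.symm]
        · by_cases h3 : r = s
          · subst h3; simp [Matrix.single_apply, mul_comm]
          · have h4 : ¬(i = r ∧ j = s) := fun h => h1 ⟨h.1.symm, h.2.symm⟩
            simp [Matrix.single_apply, h3, if_neg h4]
      · rw [he, hqa, slHom_apply]
        refine b.equivFun.injective ?_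
        rw [LinearEquiv.apply_symm_apply, map_neg, Matrix.SpecialLinearGroup.diag2n_coe]
        funext k
        by_cases h1 : k = i
        · subst h1; simp [Matrix.mulVec_diagonal]
        · simp [Matrix.mulVec_diagonal, Finsupp.single_apply, Ne.symm h1]
    refine (Subgroup.map_injective hinj).eq_iff.1 (le_antisymm ?_ ?_)
    · exact Subgroup.map_mono le_top
    · rintro _ ⟨g, -, rfl⟩
      obtain ⟨A, hA⟩ := mem_range_slHom b (ρ g) ((hdet _).1 ⟨g, rfl⟩)
      rw [← hA]
      exact Subgroup.mem_comap.1 (hK ▸ Subgroup.mem_top A)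

end Gen

end Cfsg.Agent.Lib.TransvGroups
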