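import Mathlib
import Cfsg.Agent.Lib.TransvGroups.Split

/-!
# Decomposition along the blocks
-/

set_option autoImplicit false

namespace Cfsg.Agent.Lib.TransvGroups

open Module

variable {p : ℕ} [Fact p.Prime] {V : Type*} [AddCommGroup V] [Module (ZMod p) V]
variable {H : Subgroup (V ≃ₗ[ZMod p] V)}

/-- A group generated by elements of order `p` fixing hyperplanes satisfies the hypotheses. -/
theorem gen_of [Finite V] (hp : Odd p) {T : Set (V ≃ₗ[ZMod p] V)} (hHT : H = Subgroup.closure T)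
    (hT : ∀ t ∈ T, orderOf t = p ∧
      Module.finrank (ZMod p) ↥(LinearMap.ker ((t : V →ₗ[ZMod p] V) - LinearMap.id)) + 1 =
        Module.finrank (ZMod p) V)
    (hOp : Cfsg.pCore p ↥H = ⊥) : Gen H where
  hp2 := fun h => by subst h; exact absurd hp (by decide)
  core := hOp
  gen := by
    refine le_antisymm (sub_le ⊤) ?_
    conv_lhs => rw [hHT]
    rw [Subgroup.closure_le]
    intro t ht
    obtain ⟨hord, hker⟩ := hT t ht
    set f : V →ₗ[ZMod p] V := (t : V →ₗ[ZMod p] V) - LinearMap.id with hf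
    have h1 : finrank (ZMod p) (LinearMap.range f) = 1 := by
      have := f.finrank_range_add_finrank_ker
      omega
    obtain ⟨a₀, ha₀, hspan⟩ := finrank_eq_one_iff'.1 h1
    have hfx : ∀ x, ∃ c : ZMod p, c • (a₀ : V) = f x := fun x => by
      obtain ⟨c, hc⟩ := hspan ⟨f x, x, rfl⟩
      exact ⟨c, congrArg Subtype.val hc⟩
    choose c hc using hfx
    have ha : (a₀ : V) ≠ 0 := fun h => ha₀ (Subtype.ext h)
    let α : Dual (ZMod p) V :=
      { toFun := c
        map_add' := fun x y => smul_left_injective (ZMod p) ha (by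
          simp only [add_smul, hc, map_add])
        map_smul' := fun r x => smul_left_injective (ZMod p) ha (by
          simp only [RingHom.id_apply, smul_eq_mul, mul_smul, hc, map_smul]) }
    have htx : ∀ x, t x = x + α x • (a₀ : V) := fun x => by
      show t x = x + c x • (a₀ : V)
      rw [hc]; simp [hf]
    have hα0 : α a₀ = 0 := by
      have hpow : ∀ m : ℕ, (t ^ m : V ≃ₗ[ZMod p] V) a₀ = (1 + α a₀) ^ m • (a₀ : V) := by
        intro m
        induction m with
        | zero => simp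
        | succ m ih =>
          rw [pow_succ', LinearEquiv.mul_apply, ih, map_smul, htx, pow_succ]
          module
      have h2 := hpow p
      have h3 : t ^ p = 1 := by have := pow_orderOf_eq_one t; rwa [hord] at this
      rw [h3, ZMod.pow_card, LinearEquiv.coe_one, id_eq, add_smul,
        one_smul, eq_comm, add_eq_left, smul_eq_zero] at h2
      exact h2.resolve_right ha
    have hte : t = LinearEquiv.transvection hα0 := LinearEquiv.ext fun x => htx x
    have hmem : LinearEquiv.transvection hα0 ∈ H := hte ▸ hHT ▸ Subgroup.subset_closure ht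
    have hαne : α ≠ 0 := by
      intro h
      have h1t : t = 1 := LinearEquiv.ext fun x => by simp [htx, h]
      rw [h1t, orderOf_one] at hord
      exact (Fact.out : p.Prime).ne_one hord.symm
    exact Subgroup.subset_closure ⟨_, α, hα0, ⟨ha, hαne, hα0, hmem⟩, Submodule.mem_top, hte⟩

theorem sub_normal {U : Submodule (ZMod p) V} (hU : ∀ g ∈ H, ∀ u ∈ U, g u ∈ U) :
    ((sub H U).subgroupOf H).Normal := by
  refine ⟨fun k hk g => ?_⟩
  have hle : sub H U ≤ (sub H U).comap (MulAut.conj (g : V ≃ₗ[ZMod p] V)).toMonoidHom := by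
    conv_lhs => rw [sub]
    rw [Subgroup.closure_le]
    rintro _ ⟨a, α, h0, h, ha, rfl⟩
    simp only [SetLike.mem_coe, Subgroup.mem_comap, MulEquiv.coe_toMonoidHom, MulAut.conj_apply]
    obtain ⟨h1, h2, h3, h4⟩ := h.conj_mem g.2
    rw [conj_transvection _ h0 h3]
    exact transvection_mem_sub ⟨h1, h2, h3, h4⟩ (hU g g.2 a ha)
  exact hle (Subgroup.mem_subgroupOf.1 hk)

namespace Gen

variable (hG : Gen H) [Finite V]
include hG

theorem block_le_axKer {U U' : Submodule (ZMod p) V} (hU : IsBlock (H := H) U)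
    (hU' : IsBlock (H := H) U') (hne : U ≠ U') : U' ≤ axKer H U := fun x hx a α h ha =>
  tv_mem_or_kill (block_inv hU') h (fun ha' =>
    hne ((hG.block_eq hU h ha).symm.trans (hG.block_eq hU' h ha'))) hx

theorem commute_blocks {U U' : Submodule (ZMod p) V} (hU : IsBlock (H := H) U)
    (hU' : IsBlock (H := H) U') (hne : U ≠ U') {g g' : V ≃ₗ[ZMod p] V} (hg : g ∈ sub H U)
    (hg' : g' ∈ sub H U') : g * g' = g' * g := by
  have h1 : sub H U ≤ Subgroup.centralizer (sub H U' : Set (V ≃ₗ[ZMod p] V)) := by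
    rw [sub, sub, Subgroup.centralizer_closure, Subgroup.closure_le]
    rintro _ ⟨a, α, h0, hA, ha, rfl⟩
    rw [SetLike.mem_coe, Subgroup.mem_centralizer_iff]
    rintro _ ⟨b, β, h0', hB, hb, rfl⟩
    have hαb : α b = 0 := hG.block_le_axKer hU hU' hne hb a α hA ha
    have hβa : β a = 0 := hG.block_le_axKer hU' hU hne.symm ha b β hB hb
    refine LinearEquiv.ext fun x => ?_
    simp only [LinearEquiv.mul_apply, LinearEquiv.transvection.apply, map_add, map_smul, hαb, hβa]
    module
  exact (Subgroup.mem_centralizer_iff.1 (h1 hg) g' hg').symm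

/-- Isometry or special linear group on a block. -/
theorem block_action {U : Submodule (ZMod p) V} (hU : IsBlock (H := H) U)
    {W : Submodule (ZMod p) V} (hW : W = U) :
    ∃ ρ : ↥(sub H U) →* (↥W ≃ₗ[ZMod p] ↥W),
      (∀ (h : ↥(sub H U)) (v : ↥W), ((ρ h v : ↥W) : V) = (h : V ≃ₗ[ZMod p] V) (v : V)) ∧
      ((ρ.range : Set (↥W ≃ₗ[ZMod p] ↥W)) =
          {f : ↥W ≃ₗ[ZMod p] ↥W | LinearMap.det (f : ↥W →ₗ[ZMod p] ↥W) = 1} ∨
        ∃ B : LinearMap.BilinForm (ZMod p) ↥W, B.IsAlt ∧ B.Nondegenerate ∧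
          (ρ.range : Set (↥W ≃ₗ[ZMod p] ↥W)) =
            {f : ↥W ≃ₗ[ZMod p] ↥W | ∀ x y, B (f x) (f y) = B x y}) := by
  subst hW
  refine ⟨resHom _ _ fun _ hg _ => sub_mem_of_mem hg, fun h v => rfl, ?_⟩
  obtain ⟨hbot, -⟩ := hG.block_split hU
  have hker : ∀ u : W, (LinearMap.id : W →ₗ[ZMod p] W) u = 0 ↔ (u : V) ∈ axKer H W := by
    refine fun u => ⟨fun h => ?_, fun h => ?_⟩
    · rw [LinearMap.id_apply] at h; rw [h]; exact zero_mem _
    · have h1 : (u : V) ∈ (⊥ : Submodule (ZMod p) V) := hbot ▸ ⟨u.2, h⟩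
      exact Subtype.ext ((Submodule.mem_bot _).1 h1)
  rcases hG.range_cases hU (q := LinearMap.id) Function.surjective_id hker
      (resHom (sub H W) W fun _ hg _ => sub_mem_of_mem hg)
      (fun h u u' he => Subtype.ext he.symm) with h | ⟨B, hB, h⟩
  · exact Or.inl (Set.ext h)
  · refine Or.inr ⟨B, hB.self, ⟨hB.nondeg, fun y hy => hB.nondeg y fun x => ?_⟩, ?_⟩
    · rw [hB.swap, hy x, neg_zero]
    · rw [h]; rfl

end Gen

end Cfsg.Agent.Lib.TransvGroups
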